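/-
Groups of odd order acting on a two-group `X` with `[X, A] = X`.
-/
import Cfsg.Agent.Lib.MacWilliams.Setup
import Cfsg.Agent.Lib.UniqueSubgroup

set_option autoImplicit false

namespace CfsgLib.ThompsonLemma

open Subgroup CfsgLib.MacWilliams
open scoped commutatorElement

universe u v

variable {X : Type u} [Group X] {Γ : Type v} [Group Γ]

/-- The action moves enough to generate the group. -/
def Gen (ρ : Γ →* MulAut X) : Prop := closure {g : X | ∃ a : Γ, ∃ x : X, g = x⁻¹ * ρ a x} = ⊤

/-- A subgroup stable under the action. -/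
def Invar (ρ : Γ →* MulAut X) (S : Subgroup X) : Prop := ∀ a : Γ, ∀ x ∈ S, ρ a x ∈ S

theorem invar_of_characteristic (ρ : Γ →* MulAut X) (S : Subgroup X) (hS : S.Characteristic) : Invar ρ S :=
  fun a x hx => by
    have := characteristic_iff_le_comap.1 hS (ρ a)
    exact this hx

theorem eq_top_of_gen {ρ : Γ →* MulAut X} (hg : Gen ρ) (S : Subgroup X) (h : ∀ a x, x⁻¹ * ρ a x ∈ S) : S = ⊤ := by
  refine top_le_iff.1 ?_
  rw [← hg, closure_le]
  rintro _ ⟨a, x, rfl⟩
  exact h a x

theorem hom_trivial {ρ : Γ →* MulAut X} (hg : Gen ρ) {H : Type*} [Group H] (f : X →* H)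
    (h : ∀ a x, f (ρ a x) = f x) (x : X) : f x = 1 := by
  have := eq_top_of_gen hg f.ker (fun a x => by rw [MonoidHom.mem_ker, map_mul, map_inv, h, inv_mul_cancel])
  exact MonoidHom.mem_ker.1 (this ▸ mem_top x)

theorem central_of_fixed {ρ : Γ →* MulAut X} (hg : Gen ρ) {N : Subgroup X} (hn : N.Normal)
    (hfix : ∀ a, ∀ n ∈ N, ρ a n = n) : N ≤ center X := by
  intro n hn'
  let S := centralizer (N : Set X)
  have : S = ⊤ := eq_top_of_gen hg S fun a x => by
    intro m hm
    have h1 := hfix a _ (hn.conj_mem m hm x)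
    rw [map_mul, map_mul, map_inv, hfix a m hm] at h1
    -- `ρ a x` and `x` conjugate `m` alike
    calc m * (x⁻¹ * ρ a x) = x⁻¹ * (x * m * x⁻¹) * ρ a x := by group
      _ = x⁻¹ * (ρ a x * m * (ρ a x)⁻¹) * ρ a x := by rw [h1]
      _ = x⁻¹ * ρ a x * m := by group
  exact mem_center_iff.2 fun g => ((this ▸ mem_top g : g ∈ S) n hn').symm

/-- The action on a quotient. -/
def quot (ρ : Γ →* MulAut X) (O : Subgroup X) [O.Normal] (hO : Invar ρ O) : Γ →* MulAut (X ⧸ O) where
  toFun a := QuotientGroup.congr O O (ρ a) (le_antisymm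
    (by rintro _ ⟨x, hx, rfl⟩; exact hO a x hx)
    (fun x hx => ⟨ρ a⁻¹ x, hO _ x hx, by
      show ρ a (ρ a⁻¹ x) = x
      rw [← MulAut.mul_apply, ← map_mul, mul_inv_cancel, map_one, MulAut.one_apply]⟩))
  map_one' := by
    ext q
    induction q using QuotientGroup.induction_on with | _ x => ?_
    simp
  map_mul' a b := by
    ext q
    induction q using QuotientGroup.induction_on with | _ x => ?_
    simp

theorem quot_mk (ρ : Γ →* MulAut X) (O : Subgroup X) [O.Normal] (hO : Invar ρ O) (a : Γ) (x : X) :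
    quot ρ O hO a (x : X ⧸ O) = ((ρ a x : X) : X ⧸ O) := rfl

theorem gen_quot {ρ : Γ →* MulAut X} (hg : Gen ρ) (O : Subgroup X) [O.Normal] (hO : Invar ρ O) :
    Gen (quot ρ O hO) := by
  set T := closure {g : X ⧸ O | ∃ a x, g = x⁻¹ * quot ρ O hO a x}
  have : T.comap (QuotientGroup.mk' O) = ⊤ := eq_top_of_gen hg _ fun a x =>
    subset_closure ⟨a, (x : X ⧸ O), by rw [quot_mk]; rfl⟩
  refine top_le_iff.1 fun q _ => ?_
  induction q using QuotientGroup.induction_on with | _ x => ?_
  have hx : x ∈ T.comap (QuotientGroup.mk' O) := this ▸ mem_top x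
  exact hx

section odd

variable [Finite Γ] (ρ : Γ →* MulAut X)

omit [Finite Γ] in
theorem pow_apply_of_step {a : Γ} {x y : X} (hy : ρ a x = x * y) (hfix : ρ a y = y) :
    ∀ i : ℕ, ((ρ a) ^ i) x = x * y ^ i := by
  intro i
  induction i with
  | zero => simp
  | succ i ih => rw [pow_succ', MulAut.mul_apply, ih, map_mul, map_pow, hy, hfix, pow_succ', mul_assoc]

/-- An automorphism of odd order fixing a square fixes. -/
theorem fixed_of_sq_step (hodd : Odd (Nat.card Γ)) (a : Γ) {x y : X} (hy : ρ a x = x * y) (hy2 : y ^ 2 = 1)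
    (hfix : ρ a y = y) : ρ a x = x := by
  have h := pow_apply_of_step ρ hy hfix (Nat.card Γ)
  rw [← map_pow, pow_card_eq_one', map_one, MulAut.one_apply] at h
  obtain ⟨k, hk⟩ := hodd
  rw [hk, pow_succ, pow_mul, hy2, one_pow, one_mul] at h
  rw [hy, ← h]

/-- An automorphism of odd order fixing the involutions of an invariant abelian subgroup fixes it. -/
theorem fixed_of_omega (hodd : Odd (Nat.card Γ)) (h2 : IsPGroup 2 X) (a : Γ) {N : Subgroup X}
    (hc : ∀ x ∈ N, ∀ y ∈ N, x * y = y * x) (hinv : Invar ρ N) (hfix : ∀ x ∈ N, x ^ 2 = 1 → ρ a x = x) :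
    ∀ x ∈ N, ρ a x = x := by
  intro x
  obtain ⟨k, hk⟩ := h2 x
  induction k generalizing x with
  | zero => intro _; rw [pow_zero, pow_one] at hk; rw [hk, map_one]
  | succ k ih =>
    intro hx
    have h1 : ρ a (x ^ 2) = x ^ 2 := ih (x ^ 2) (by rw [← pow_mul, ← pow_succ']; exact hk) (pow_mem hx 2)
    have hy : x⁻¹ * ρ a x ∈ N := mul_mem (inv_mem hx) (hinv a x hx)
    have hy2 : (x⁻¹ * ρ a x) ^ 2 = 1 := by
      rw [(show Commute x⁻¹ (ρ a x) from hc _ (inv_mem hx) _ (hinv a x hx)).mul_pow, inv_pow, ← map_pow, h1,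
        inv_mul_cancel]
    exact fixed_of_sq_step ρ hodd a (by group) hy2 (hfix _ hy hy2)

/-- An automorphism of odd order fixing a nontrivial element of a group of order four fixes it. -/
theorem fixed_of_four [Finite X] (hodd : Odd (Nat.card Γ)) (a : Γ) {S : Subgroup X} (hinv : Invar ρ S)
    (hcard : Nat.card S ≤ 4) {c : X} (hc : c ∈ S) (hc1 : c ≠ 1) (hcfix : ρ a c = c) :
    ∀ x ∈ S, ρ a x = x := by
  classical
  intro x hx
  by_contra hne
  set y := ρ a x with hy
  have hx1 : x ≠ 1 := by rintro rfl; exact hne (map_one _)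
  have hxc : x ≠ c := by rintro rfl; exact hne hcfix
  have hy1 : y ≠ 1 := fun e => hx1 ((ρ a).injective (by rw [← hy, e, map_one]))
  have hyc : y ≠ c := fun e => hxc ((ρ a).injective (by rw [← hy, e, hcfix]))
  haveI : Fintype S := Fintype.ofFinite _
  let s : Finset S := {1, ⟨c, hc⟩, ⟨x, hx⟩, ⟨y, hinv a x hx⟩}
  have hs : s.card = 4 := by
    simp only [s]
    rw [Finset.card_insert_of_notMem, Finset.card_insert_of_notMem, Finset.card_insert_of_notMem,
      Finset.card_singleton]
    · simp only [Finset.mem_singleton, Subtype.mk.injEq]; exact fun e => hne e.symm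
    · simp only [Finset.mem_insert, Finset.mem_singleton, Subtype.mk.injEq, not_or]
      exact ⟨hxc.symm, hyc.symm⟩
    · simp only [Finset.mem_insert, Finset.mem_singleton, not_or]
      exact ⟨fun e => hc1 (congrArg Subtype.val e).symm, fun e => hx1 (congrArg Subtype.val e).symm,
        fun e => hy1 (congrArg Subtype.val e).symm⟩
  have hu : s = Finset.univ := Finset.eq_univ_of_card _ (le_antisymm (Finset.card_le_univ _)
    (by rw [hs, ← Nat.card_eq_fintype_card]; exact hcard))
  have hm : (⟨ρ a y, hinv a y (hinv a x hx)⟩ : S) ∈ s := by rw [hu]; exact Finset.mem_univ _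
  simp only [s, Finset.mem_insert, Finset.mem_singleton, Subtype.ext_iff, OneMemClass.coe_one] at hm
  have hyx : ρ a y = x := by
    rcases hm with e | e | e | e
    · exact absurd ((ρ a).injective (e.trans (map_one _).symm)) hy1
    · exact absurd ((ρ a).injective (e.trans hcfix.symm)) hyc
    · exact e
    · exact absurd ((ρ a).injective (e.trans hy)) (fun h => hne (hy.symm.trans h))
  have h2 : ∀ i : ℕ, ((ρ a) ^ (2 * i)) x = x := by
    intro i
    induction i with
    | zero => simp
    | succ i ih => rw [mul_add, mul_one, pow_succ', pow_succ', MulAut.mul_apply, MulAut.mul_apply, ih, ← hy, hyx]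
  obtain ⟨k, hk⟩ := hodd
  have h3 : ((ρ a) ^ Nat.card Γ) x = x := by rw [← map_pow, pow_card_eq_one', map_one, MulAut.one_apply]
  rw [hk, pow_succ', MulAut.mul_apply, h2] at h3
  exact hne h3

/-- An element whose class in an abelian quotient is fixed lies in the kernel. -/
theorem mem_of_fixed [Finite X] (hodd : Odd (Nat.card Γ)) (h2 : IsPGroup 2 X) (hg : Gen ρ) (D : Subgroup X)
    [D.Normal] (hD : Invar ρ D) (hab : ∀ x y : X, ⁅x, y⁆ ∈ D) {x : X} (hx : ∀ a, x⁻¹ * ρ a x ∈ D) : x ∈ D := by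
  classical
  haveI := Fintype.ofFinite Γ
  letI : CommGroup (X ⧸ D) :=
    { QuotientGroup.Quotient.group D with
      mul_comm := fun p q => by
        induction p using QuotientGroup.induction_on with | _ p => ?_
        induction q using QuotientGroup.induction_on with | _ q => ?_
        rw [← commutatorElement_eq_one_iff_mul_comm]
        exact ((map_commutatorElement (QuotientGroup.mk' D) p q).symm.trans
          ((QuotientGroup.eq_one_iff _).2 (hab p q))) }
  let μ : X →* X ⧸ D :=
    { toFun := fun y => ∏ a : Γ, ((ρ a y : X) : X ⧸ D)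
      map_one' := by simp
      map_mul' := fun y z => by simp [Finset.prod_mul_distrib] }
  have hμ : ∀ b y, μ (ρ b y) = μ y := fun b y => by
    show ∏ a : Γ, ((ρ a (ρ b y) : X) : X ⧸ D) = _
    exact Fintype.prod_equiv (Equiv.mulRight b) _ _ fun a => by
      rw [← MulAut.mul_apply, ← map_mul]; rfl
  have h := hom_trivial hg μ hμ x
  have hfix : ∀ a, ((ρ a x : X) : X ⧸ D) = (x : X ⧸ D) := fun a => (QuotientGroup.eq.2 (hx a)).symm
  have h' : (x : X ⧸ D) ^ Fintype.card Γ = 1 := by
    rw [← h]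
    show _ = ∏ a : Γ, ((ρ a x : X) : X ⧸ D)
    rw [Finset.prod_congr rfl fun a _ => hfix a, Finset.prod_const, Finset.card_univ]
  obtain ⟨k, hk⟩ := h2 x
  have h2' : (x : X ⧸ D) ^ 2 ^ k = 1 := by rw [← QuotientGroup.mk_pow, hk]; rfl
  have hcop : Nat.Coprime (Fintype.card Γ) (2 ^ k) := by
    refine Nat.Coprime.pow_right _ (Nat.coprime_two_right.2 ?_)
    rwa [← Nat.card_eq_fintype_card]
  have e := pow_gcd_eq_one.2 ⟨h', h2'⟩
  rw [hcop.gcd_eq_one, pow_one] at e
  exact (QuotientGroup.eq_one_iff x).1 e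

end odd

/-- Class two with commutators of exponent two. -/
def Small (X : Type*) [Group X] : Prop :=
  ∀ x y : X, ⁅x, y⁆ ∈ center X ∧ ⁅x, y⁆ ^ 2 = 1

namespace Small

variable (hs : Small X)
include hs

theorem comm_central (x y g : X) : g * ⁅x, y⁆ = ⁅x, y⁆ * g := mem_center_iff.1 (hs x y).1 g

theorem comm_inv (x y : X) : ⁅x, y⁆⁻¹ = ⁅x, y⁆ :=
  inv_eq_of_mul_eq_one_right (by rw [← pow_two]; exact (hs x y).2)

theorem comm_swap (x y : X) : ⁅y, x⁆ = ⁅x, y⁆ := by rw [← commutatorElement_inv, hs.comm_inv]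

theorem mul_left (x y t : X) : ⁅x * y, t⁆ = ⁅x, t⁆ * ⁅y, t⁆ := by
  have : ⁅x * y, t⁆ = x * ⁅y, t⁆ * x⁻¹ * ⁅x, t⁆ := by simp only [commutatorElement_def]; group
  rw [this, hs.comm_central y t x, mul_inv_cancel_right, hs.comm_central x t ⁅y, t⁆]

theorem mul_right (x y t : X) : ⁅t, x * y⁆ = ⁅t, x⁆ * ⁅t, y⁆ := by
  rw [hs.comm_swap, hs.mul_left, hs.comm_swap x, hs.comm_swap y]

/-- Commuting with a fixed element, as a homomorphism. -/
def psi (t : X) : X →* X := MonoidHom.mk' (fun g => ⁅g, t⁆) fun a b => hs.mul_left a b t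

theorem psi_apply (t g : X) : hs.psi t g = ⁅g, t⁆ := rfl

theorem sq_mem_center (x : X) : x ^ 2 ∈ center X :=
  mem_center_iff.2 fun g => (commutatorElement_eq_one_iff_mul_comm.1 (by
    rw [pow_two, hs.mul_left, ← pow_two]; exact (hs x g).2)).symm

theorem sq_mul (x y : X) : (x * y) ^ 2 = x ^ 2 * y ^ 2 * ⁅x, y⁆ := by
  have e : y * x = ⁅x, y⁆ * (x * y) := by
    rw [← hs.comm_swap x y, commutatorElement_def]; group
  calc (x * y) ^ 2 = x * (y * x) * y := by rw [pow_two]; group
    _ = x * (⁅x, y⁆ * (x * y)) * y := by rw [e]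
    _ = ⁅x, y⁆ * (x ^ 2 * y ^ 2) := by
      rw [← mul_assoc x, hs.comm_central x y x, pow_two, pow_two]; group
    _ = x ^ 2 * y ^ 2 * ⁅x, y⁆ := (hs.comm_central x y (x ^ 2 * y ^ 2)).symm

/-- A centre of index at most four leaves one nontrivial commutator. -/
theorem comm_cases [Finite X] (h4 : Nat.card (X ⧸ center X) ≤ 4) {u v : X} (huv : ⁅u, v⁆ ≠ 1) :
    ∀ x y : X, ⁅x, y⁆ = 1 ∨ ⁅x, y⁆ = ⁅u, v⁆ := by
  classical
  haveI := Fintype.ofFinite (X ⧸ center X)
  have key : ∀ x y g : X, (x : X ⧸ center X) = (y : X ⧸ center X) → ⁅x, g⁆ = ⁅y, g⁆ := by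
    intro x y g h
    have hc : ⁅x⁻¹ * y, g⁆ = 1 := commutatorElement_eq_one_iff_mul_comm.2
      (mem_center_iff.1 (QuotientGroup.eq.1 h) g).symm
    rw [show y = x * (x⁻¹ * y) by group, hs.mul_left, hc, mul_one]
  have hu : (u : X ⧸ center X) ≠ 1 := fun e => huv (by rw [key u 1 v e, commutatorElement_one_left])
  have hv : (v : X ⧸ center X) ≠ 1 := fun e => huv (by
    rw [← hs.comm_swap, key v 1 u e, commutatorElement_one_left])
  have hne : (u : X ⧸ center X) ≠ v := fun e => huv (by rw [key u v v e, commutatorElement_self])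
  let s : Finset (X ⧸ center X) := {1, (u : X ⧸ center X), (v : X ⧸ center X), ((u * v : X) : X ⧸ center X)}
  have hcard : s.card = 4 := by
    simp only [s]
    rw [Finset.card_insert_of_notMem, Finset.card_insert_of_notMem, Finset.card_insert_of_notMem,
      Finset.card_singleton]
    · simp only [Finset.mem_singleton, QuotientGroup.mk_mul]; exact fun e => hu (mul_eq_right.1 e.symm)
    · simp only [Finset.mem_insert, Finset.mem_singleton, not_or, QuotientGroup.mk_mul]
      exact ⟨hne, fun e => hv (mul_eq_left.1 e.symm)⟩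
    · simp only [Finset.mem_insert, Finset.mem_singleton, not_or]
      refine ⟨fun e => hu e.symm, fun e => hv e.symm, fun e => ?_⟩
      have := key (u * v) 1 v e.symm
      rw [hs.mul_left, commutatorElement_self, mul_one, commutatorElement_one_left] at this
      exact huv this
  have hall : ∀ x : X, (x : X ⧸ center X) = 1 ∨ (x : X ⧸ center X) = u ∨ (x : X ⧸ center X) = v ∨
      (x : X ⧸ center X) = (u * v : X) := by
    intro x
    have hsu : s = Finset.univ := Finset.eq_univ_of_card _ (le_antisymm (Finset.card_le_univ _)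
      (by rw [hcard, ← Nat.card_eq_fintype_card]; exact h4))
    have := hsu ▸ Finset.mem_univ (x : X ⧸ center X)
    simpa [s] using this
  have hc2 : ⁅u, v⁆ * ⁅u, v⁆ = 1 := by rw [← pow_two]; exact (hs u v).2
  intro x y
  rcases hall x with e | e | e | e <;> rcases hall y with f | f | f | f <;>
    rw [key x _ y (e.trans (by first | rfl | exact (QuotientGroup.mk_one _).symm)), hs.comm_swap,
      key y _ _ (f.trans (by first | rfl | exact (QuotientGroup.mk_one _).symm)), hs.comm_swap] <;>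
    simp [hs.mul_left, hs.mul_right, hs.comm_swap u v, hc2]

end Small

end CfsgLib.ThompsonLemma
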