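/-
The case where all elements of order at most four are central; the rank hypothesis.
-/
import Cfsg.Agent.Lib.ThompsonLemma.Basic
import Cfsg.Prelude.Def_Transfer
import Cfsg.Agent.Lib.RankFrattini

set_option autoImplicit false

namespace CfsgLib.ThompsonLemma

open Subgroup CfsgLib.MacWilliams
open scoped commutatorElement

universe u v

theorem commutative_aux.{w, z} {Γ : Type z} [Group Γ] [Finite Γ] (hodd : Odd (Nat.card Γ)) :
    ∀ (n : ℕ) {X : Type w} [Group X] [Finite X] (ρ : Γ →* MulAut X) (_ : IsPGroup 2 X) (_ : Gen ρ)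
      (h : FourCentral X), Nat.card X = n → Nat.card (omegaOne h) ≤ 4 → ∀ x y : X, x * y = y * x := by
  intro n
  induction n using Nat.strong_induction_on with
  | _ n ih =>
    intro X _ _ ρ h2 hg h hn h4
    by_contra hnc
    push Not at hnc
    obtain ⟨u, v, huv⟩ := hnc
    have huv' : ⁅u, v⁆ ≠ 1 := fun e => huv (commutatorElement_eq_one_iff_mul_comm.1 e)
    haveI : Nontrivial X := ⟨_, _, huv'⟩
    set O := omegaOne h with hOdef
    haveI hON : O.Normal := ⟨fun z hz g => by rw [← central_omegaOne h hz g, mul_inv_cancel_right]; exact hz⟩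
    have hOinv : Invar ρ O := fun a x hx => (mem_omegaOne h).2 (by
      rw [← map_pow, (mem_omegaOne h).1 hx, map_one])
    have hO1 : O ≠ ⊥ := by
      haveI : Fact (Nat.Prime 2) := ⟨Nat.prime_two⟩
      obtain ⟨k, hk, hcard⟩ := h2.nontrivial_iff_card.1 inferInstance
      obtain ⟨z, hz⟩ := exists_prime_orderOf_dvd_card' (G := X) 2 (hcard ▸ dvd_pow_self 2 hk.ne')
      intro hb
      have : z ∈ O := (mem_omegaOne h).2 (by rw [← hz]; exact pow_orderOf_eq_one z)
      rw [hb, mem_bot] at this
      simp [this] at hz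
    have key : ∀ x : X, x ^ 4 ∈ O → ∀ y : X, x⁻¹ * y * x * y⁻¹ ∈ O := by
      intro x hx y
      have h8 : (x ^ 2) ^ 4 = 1 := by
        rw [← pow_mul, show 2 * 4 = 4 * 2 from rfl, pow_mul]; exact hx
      have hcent := h (x ^ 2) h8 y
      have hsq : (y * x * y⁻¹) ^ 2 = x ^ 2 := by rw [conj_pow, ← hcent, mul_inv_cancel_right]
      have := sq_inj h2 h hsq.symm
      rw [mem_omegaOne]
      simpa [mul_assoc] using this
    have hq : FourCentral (X ⧸ O) := by
      intro a ha b
      induction a using QuotientGroup.induction_on with | _ x => ?_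
      induction b using QuotientGroup.induction_on with | _ y => ?_
      rw [← QuotientGroup.mk_pow, QuotientGroup.eq_one_iff] at ha
      rw [← QuotientGroup.mk_mul, ← QuotientGroup.mk_mul, QuotientGroup.eq]
      have e1 := key x ha y⁻¹
      simpa [mul_assoc] using O.inv_mem e1
    have hq4 : Nat.card (omegaOne hq) ≤ 4 := by
      have hsq : ∀ a : omegaOne hq, ∃ z : O, ∀ x : X, (x : X ⧸ O) = a.1 → (z : X) = x ^ 2 := by
        intro a
        obtain ⟨x, hx⟩ := QuotientGroup.mk_surjective a.1
        have h1 : x ^ 2 ∈ O := by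
          have := (mem_omegaOne hq).1 a.2
          rwa [← hx, ← QuotientGroup.mk_pow, QuotientGroup.eq_one_iff] at this
        refine ⟨⟨x ^ 2, h1⟩, fun y hy => ?_⟩
        have h2' : x⁻¹ * y ∈ O := QuotientGroup.eq.1 (hx.trans hy.symm)
        have hcomm : Commute x (x⁻¹ * y) := (central_omegaOne h h2' x).symm
        show x ^ 2 = y ^ 2
        conv_rhs => rw [← mul_inv_cancel_left x y, hcomm.mul_pow, (mem_omegaOne h).1 h2', mul_one]
      choose σ hσ using hsq
      refine (Nat.card_le_card_of_injective σ fun a b hab => ?_).trans h4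
      obtain ⟨x, hx⟩ := QuotientGroup.mk_surjective a.1
      obtain ⟨y, hy⟩ := QuotientGroup.mk_surjective b.1
      have : x ^ 2 = y ^ 2 := by rw [← hσ a x hx, ← hσ b y hy, hab]
      refine Subtype.ext ?_
      rw [← hx, ← hy, QuotientGroup.eq]
      exact (mem_omegaOne h).2 (sq_inj h2 h this)
    have hlt : Nat.card (X ⧸ O) < n := by
      rw [← hn, O.card_eq_card_quotient_mul_card_subgroup]
      exact lt_mul_of_one_lt_right Nat.card_pos ((one_lt_card_iff_ne_bot O).2 hO1)
    have hqc := ih _ hlt (quot ρ O hOinv) (h2.to_quotient O) (gen_quot hg O hOinv) hq rfl hq4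
    have hcO : ∀ x y : X, ⁅x, y⁆ ∈ O := fun x y => by
      refine (QuotientGroup.eq_one_iff _).1 ((map_commutatorElement (QuotientGroup.mk' O) x y).trans ?_)
      rw [commutatorElement_eq_one_iff_mul_comm]
      exact hqc _ _
    have hs : Small X := fun x y =>
      ⟨mem_center_iff.2 fun g => (central_omegaOne h (hcO x y) g).symm, (mem_omegaOne h).1 (hcO x y)⟩
    have hV : ∀ q : X ⧸ center X, q ^ 2 = 1 := fun q => by
      induction q using QuotientGroup.induction_on with | _ x => ?_
      exact (QuotientGroup.eq_one_iff _).2 (hs.sq_mem_center x)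
    have hV4 : Nat.card (X ⧸ center X) ≤ 4 :=
      (card_le_omegaOne h2 h (QuotientGroup.mk' (center X)) (QuotientGroup.mk'_surjective _) hV).trans h4
    have hcfix : ∀ a, ρ a ⁅u, v⁆ = ⁅u, v⁆ := fun a => by
      have e := map_commutatorElement (ρ a) u v
      rcases hs.comm_cases hV4 huv' (ρ a u) (ρ a v) with hh | hh
      · exact absurd ((ρ a).injective ((e.trans hh).trans (map_one _).symm)) huv'
      · exact e.trans hh
    have hOfix : ∀ a, ∀ x ∈ O, ρ a x = x := fun a =>
      fixed_of_four ρ hodd a hOinv h4 (hcO u v) huv' (hcfix a)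
    have hall : ∀ a x, x⁻¹ * ρ a x ∈ O := fun a x => by
      refine QuotientGroup.eq.1 ?_
      have := fixed_of_omega (quot ρ O hOinv) hodd (h2.to_quotient O) a (N := ⊤) (fun p _ q _ => hqc p q)
        (fun _ _ _ => mem_top _) (fun q _ hq2 => by
          induction q using QuotientGroup.induction_on with | _ y => ?_
          rw [← QuotientGroup.mk_pow, QuotientGroup.eq_one_iff] at hq2
          have e : y ^ 2 = (ρ a y) ^ 2 := by rw [← map_pow, hOfix a _ hq2]
          rw [quot_mk, eq_comm, QuotientGroup.eq]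
          exact (mem_omegaOne h).2 (sq_inj h2 h e)) (x : X ⧸ O) (mem_top _)
      rw [quot_mk] at this
      exact this.symm
    have htop := eq_top_of_gen hg O hall
    exact huv (central_omegaOne h (htop ▸ mem_top u : u ∈ O) v)

/-- A group with central elements of order four and a generating action of odd order is abelian. -/
theorem commutative_of_fourCentral {X : Type u} [Group X] [Finite X] {Γ : Type v} [Group Γ] [Finite Γ]
    (hodd : Odd (Nat.card Γ)) {ρ : Γ →* MulAut X} (h2 : IsPGroup 2 X) (hg : Gen ρ) (h : FourCentral X)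
    (h4 : Nat.card (omegaOne h) ≤ 4) : ∀ x y : X, x * y = y * x :=
  commutative_aux hodd _ ρ h2 hg h rfl h4

/-- The hypothesis on self-centralising subgroups bounds normal elementary abelian subgroups. -/
theorem noEight_of_scn {X : Type u} [Group X] [Finite X] (h2 : IsPGroup 2 X)
    (hscn : ¬ ∃ A : Subgroup X, A.Normal ∧ centralizer (A : Set X) = A ∧
      ∃ E : Subgroup X, E ≤ A ∧ Cfsg.IsElementaryAbelian 2 E ∧ Nat.card E = 8) : NoEight X := by
  intro N hN hNc hN2
  by_contra hbig
  push Not at hbig
  haveI : Fact (Nat.Prime 2) := ⟨Nat.prime_two⟩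
  haveI := h2.isNilpotent
  obtain ⟨A, ⟨hAn, hAc, hNA⟩, hmax⟩ := (Set.toFinite
    {A : Subgroup X | A.Normal ∧ (∀ x ∈ A, ∀ y ∈ A, x * y = y * x) ∧ N ≤ A}).exists_maximal
      ⟨N, hN, fun x hx y hy => congrArg Subtype.val (hNc.is_comm.comm ⟨x, hx⟩ ⟨y, hy⟩), le_rfl⟩
  have hself : centralizer (A : Set X) = A := by
    refine le_antisymm ?_ (fun a ha b hb => hAc b hb a ha)
    by_contra hle
    set C := centralizer (A : Set X) with hC
    set φ := QuotientGroup.mk' A
    haveI : (C.map φ).Normal := Normal.map inferInstance φ (QuotientGroup.mk'_surjective A)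
    have hne : C.map φ ≠ ⊥ := by
      rw [Ne, Subgroup.map_eq_bot_iff, QuotientGroup.ker_mk']; exact hle
    obtain ⟨q, hq, hq1⟩ := (Subgroup.bot_or_exists_ne_one _).resolve_left
      (CfsgLib.inf_center_ne_bot_of_nilpotent hne)
    obtain ⟨⟨y, hy, rfl⟩, hyz⟩ := Subgroup.mem_inf.1 hq
    have hyA : y ∉ A := fun h => hq1 ((QuotientGroup.eq_one_iff y).2 h)
    set B := closure (insert y (A : Set X)) with hB
    have hAB : A ≤ B := fun w hw => subset_closure (Or.inr hw)
    have hyB : y ∈ B := subset_closure (Or.inl rfl)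
    have hBc : ∀ a ∈ B, ∀ b ∈ B, a * b = b * a := by
      haveI : IsMulCommutative B := Subgroup.isMulCommutative_closure (by
        rintro a (rfl | ha) b (rfl | hb)
        · rfl
        · exact (hy b hb).symm
        · exact hy a ha
        · exact hAc a ha b hb)
      exact fun a ha b hb => congrArg Subtype.val (mul_comm' (⟨a, ha⟩ : B) ⟨b, hb⟩)
    have hBn : B.Normal := by
      refine ⟨fun b hb g => ?_⟩
      induction hb using Subgroup.closure_induction with
      | mem b hb =>
        rcases hb with rfl | hb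
        · have h1 : g * b * g⁻¹ * b⁻¹ ∈ A := by
            have h2 : φ (g * b * g⁻¹ * b⁻¹) = 1 := by
              rw [map_mul, map_mul, map_mul, map_inv, map_inv,
                Subgroup.mem_center_iff.1 hyz (φ g), mul_inv_cancel_right, mul_inv_cancel]
            exact (QuotientGroup.eq_one_iff _).1 h2
          have := B.mul_mem (hAB h1) hyB
          rwa [inv_mul_cancel_right] at this
        · exact hAB (hAn.conj_mem b hb g)
      | one => simp
      | mul a b _ _ iha ihb =>
        have := B.mul_mem iha ihb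
        rwa [show g * a * g⁻¹ * (g * b * g⁻¹) = g * (a * b) * g⁻¹ by group] at this
      | inv a _ iha =>
        have := B.inv_mem iha
        rwa [show (g * a * g⁻¹)⁻¹ = g * a⁻¹ * g⁻¹ by group] at this
    exact hyA (hmax ⟨hBn, hBc, hNA.trans hAB⟩ hAB hyB)
  obtain ⟨k, hk⟩ := IsPGroup.iff_card.1 (h2.to_subgroup N)
  have hk3 : 3 ≤ k := by
    by_contra hc
    have := Nat.pow_le_pow_right (show 0 < 2 by norm_num) (show k ≤ 2 by omega)
    omega
  obtain ⟨D, hD⟩ := Sylow.exists_subgroup_card_pow_prime (G := N) 2 (n := 3) (hk ▸ pow_dvd_pow 2 hk3)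
  refine hscn ⟨A, hAn, hself, D.map N.subtype, (map_subtype_le D).trans hNA, ⟨⟨⟨fun a b => Subtype.ext
    (congrArg (Subtype.val : N → X) (hNc.is_comm.comm ⟨a.1, map_subtype_le D a.2⟩ ⟨b.1, map_subtype_le D b.2⟩))⟩⟩,
    fun a ha => hN2 a (map_subtype_le D ha)⟩, by rw [card_subtype, hD]; rfl⟩

section

variable {X : Type u} [Group X]

/-- Commutators and products. -/
theorem commutator_eq_sq (x y : X) : ⁅x, y⁆ = x ^ 2 * (x⁻¹ * y) ^ 2 * (y ^ 2)⁻¹ := by
  simp only [commutatorElement_def, pow_two]; group

/-- In a group with no normal elementary abelian subgroup of order eight a central subgroup of order four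
containing all commutators contains all involutions. -/
theorem mem_of_sq_eq_one [Finite X] (h8 : NoEight X) {O : Subgroup X} (hO : O ≤ center X)
    (h4 : 4 ≤ Nat.card O) (hexp : ∀ o ∈ O, o ^ 2 = 1) (hcomm : ∀ x y : X, ⁅x, y⁆ ∈ O) {x : X} (hx : x ^ 2 = 1) :
    x ∈ O := by
  let B := closure (insert x (O : Set X))
  have hxB : x ∈ B := subset_closure (Or.inl rfl)
  have hOB : O ≤ B := fun o ho => subset_closure (Or.inr ho)
  have hBn : B.Normal := ⟨fun b hb g => by
    have : g * b * g⁻¹ = ⁅g, b⁆ * b := by rw [commutatorElement_def, inv_mul_cancel_right]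
    rw [this]; exact mul_mem (hOB (hcomm g b)) hb⟩
  haveI hBc : IsMulCommutative B := Subgroup.isMulCommutative_closure (by
    rintro a (rfl | ha) b (rfl | hb)
    · rfl
    · exact mem_center_iff.1 (hO hb) a
    · exact (mem_center_iff.1 (hO ha) b).symm
    · exact (mem_center_iff.1 (hO ha) b).symm)
  have hB2 : ∀ b ∈ B, b ^ 2 = 1 := by
    intro b hb
    induction hb using Subgroup.closure_induction with
    | mem b hb =>
      rcases hb with rfl | hb
      · exact hx
      · exact hexp b hb
    | one => exact one_pow _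
    | mul a b ha hb e e' =>
      have : Commute a b := congrArg (Subtype.val : B → X) (mul_comm' (⟨a, ha⟩ : B) ⟨b, hb⟩)
      rw [this.mul_pow, e, e', one_mul]
    | inv a _ e => rw [inv_pow, e, inv_one]
  rw [eq_of_le_of_card_ge hOB ((h8 B hBn hBc hB2).trans h4)]
  exact hxB

end

end CfsgLib.ThompsonLemma
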