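/-
Facts on endomorphisms of a four-group under a rotation, checked by computation.
-/
import Cfsg.Agent.Lib.MacWilliams.Endo

set_option autoImplicit false
set_option synthInstance.maxSize 4000
set_option synthInstance.maxHeartbeats 200000

namespace CfsgLib.ThompsonLemma

open CfsgLib.MacWilliams

/-- The identity. -/
def idM : M4 := ((1, 0), (0, 1))
/-- A rotation. -/
def rotM : M4 := ((0, 1), (1, 1))
/-- Its inverse. -/
def rotM2 : M4 := ((1, 1), (1, 0))

/-- The nonzero endomorphisms in the image of `M ↦ M + rot M`, together with `0`. -/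
def InJ (M : M4) : Prop := M = 0 ∨ M = ((0, 1), (1, 0)) ∨ M = ((1, 0), (1, 1)) ∨ M = ((1, 1), (0, 1))

instance : DecidablePred InJ := fun M => inferInstanceAs (Decidable (_ ∨ _ ∨ _ ∨ _))

theorem inv_cases : ∀ T, MacWilliams.Inv T → (∀ v, app T (app T v) = v) ∨ T = rotM ∨ T = rotM2 := by decide +kernel
theorem app_idM : ∀ v, app idM v = v := by decide +kernel
theorem gen_id : ∀ M N, (∀ v, app N v = app M v) → InJ (M + N) := by decide +kernel
theorem gen_rot : ∀ M N, (∀ v, app N (app rotM v) = app rotM (app M v)) → InJ (M + N) := by decide +kernel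
theorem gen_rot2 : ∀ M N, (∀ v, app N (app rotM2 v) = app rotM2 (app M v)) → InJ (M + N) := by decide +kernel
theorem inJ_zero : InJ 0 := Or.inl rfl
theorem inJ_add : ∀ M N, InJ M → InJ N → InJ (M + N) := by decide +kernel
theorem inJ_inv : ∀ M, InJ M → M ≠ 0 → MacWilliams.Inv M := by decide +kernel
theorem inJ_rot : ∀ M N, InJ M → M ≠ 0 → (∀ v, app N (app rotM v) = app rotM (app M v)) → N ≠ 0 ∧ N ≠ M := by
  decide +kernel
theorem inJ_span : ∀ M N L, InJ M → InJ N → InJ L → M ≠ 0 → N ≠ 0 → N ≠ M → L = 0 ∨ L = M ∨ L = N ∨ L = M + N := by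
  decide +kernel
theorem inJ_fixed : ∀ M N, InJ M → InJ N → M ≠ 0 → N ≠ 0 → N ≠ M → ∀ v, app M v = v → app N v = v → v = 0 := by
  decide +kernel

theorem card_inJ : Nat.card {M // InJ M} = 4 := by
  rw [Nat.card_eq_fintype_card]
  decide +kernel

theorem rotM_app : app rotM 0 = 0 ∧ app rotM (1, 0) = (0, 1) ∧ app rotM (0, 1) = (1, 0) + (0, 1) ∧
    app rotM ((1, 0) + (0, 1)) = (1, 0) := by decide +kernel

theorem card_v2_ne : Nat.card {v : V2 // v ≠ 0} = 3 := by
  rw [Nat.card_eq_fintype_card]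
  decide +kernel

end CfsgLib.ThompsonLemma
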