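/-
A noncentral invariant normal abelian subgroup forces a special group of order 64.
-/
import Cfsg.Agent.Lib.ThompsonLemma.Central
import Cfsg.Agent.Lib.ThompsonLemma.Rot
import Cfsg.Agent.Lib.MacWilliams.Full

set_option autoImplicit false

namespace CfsgLib.ThompsonLemma

open Subgroup CfsgLib.MacWilliams
open scoped commutatorElement

universe u v

variable {X : Type u} [Group X] [Finite X] {Γ : Type v} [Group Γ] [Finite Γ] {ρ : Γ →* MulAut X}

theorem four_all {S : Subgroup X} (hcard : Nat.card S ≤ 4) {a b : X} (ha : a ∈ S) (hb : b ∈ S) (ha1 : a ≠ 1)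
    (hb1 : b ≠ 1) (hab : a ≠ b) (ha2 : a ^ 2 = 1) :
    ∀ x ∈ S, x = 1 ∨ x = a ∨ x = b ∨ x = a * b := by
  classical
  haveI : Fintype S := Fintype.ofFinite _
  have hne : a * b ≠ 1 := fun e => hab (by
    rw [← inv_eq_of_mul_eq_one_right e, inv_eq_of_mul_eq_one_right (by rw [← pow_two, ha2])])
  let s : Finset S := {1, ⟨a, ha⟩, ⟨b, hb⟩, ⟨a * b, mul_mem ha hb⟩}
  have hs : s.card = 4 := by
    simp only [s]
    rw [Finset.card_insert_of_notMem, Finset.card_insert_of_notMem, Finset.card_insert_of_notMem,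
      Finset.card_singleton]
    · simp only [Finset.mem_singleton, Subtype.mk.injEq]; exact fun e => ha1 (mul_eq_right.1 e.symm)
    · simp only [Finset.mem_insert, Finset.mem_singleton, Subtype.mk.injEq, not_or]
      exact ⟨hab, fun e => hb1 (mul_eq_left.1 e.symm)⟩
    · simp only [Finset.mem_insert, Finset.mem_singleton, not_or]
      exact ⟨fun e => ha1 (congrArg Subtype.val e).symm, fun e => hb1 (congrArg Subtype.val e).symm,
        fun e => hne (congrArg Subtype.val e).symm⟩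
  intro x hx
  have hu : s = Finset.univ := Finset.eq_univ_of_card _ (le_antisymm (Finset.card_le_univ _)
    (by rw [hs, ← Nat.card_eq_fintype_card]; exact hcard))
  have := hu ▸ Finset.mem_univ (⟨x, hx⟩ : S)
  simpa [s, Subtype.ext_iff] using this

theorem four_le_card {S : Subgroup X} {a b : X} (ha : a ∈ S) (hb : b ∈ S) (ha1 : a ≠ 1) (hb1 : b ≠ 1)
    (hab : a ≠ b) (ha2 : a ^ 2 = 1) : 4 ≤ Nat.card S := by
  classical
  haveI : Fintype S := Fintype.ofFinite _
  have hne : a * b ≠ 1 := fun e => hab (by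
    rw [← inv_eq_of_mul_eq_one_right e, inv_eq_of_mul_eq_one_right (by rw [← pow_two, ha2])])
  let s : Finset S := {1, ⟨a, ha⟩, ⟨b, hb⟩, ⟨a * b, mul_mem ha hb⟩}
  have hs : s.card = 4 := by
    simp only [s]
    rw [Finset.card_insert_of_notMem, Finset.card_insert_of_notMem, Finset.card_insert_of_notMem,
      Finset.card_singleton]
    · simp only [Finset.mem_singleton, Subtype.mk.injEq]; exact fun e => ha1 (mul_eq_right.1 e.symm)
    · simp only [Finset.mem_insert, Finset.mem_singleton, Subtype.mk.injEq, not_or]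
      exact ⟨hab, fun e => hb1 (mul_eq_left.1 e.symm)⟩
    · simp only [Finset.mem_insert, Finset.mem_singleton, not_or]
      exact ⟨fun e => ha1 (congrArg Subtype.val e).symm, fun e => hb1 (congrArg Subtype.val e).symm,
        fun e => hne (congrArg Subtype.val e).symm⟩
  rw [Nat.card_eq_fintype_card, ← hs]
  exact Finset.card_le_univ _

theorem no_two_cycle (hodd : Odd (Nat.card Γ)) (a : Γ) {x y : X} (hxy : ρ a x = y) (hyx : ρ a y = x) :
    y = x := by
  have h2 : ∀ i : ℕ, ((ρ a) ^ (2 * i)) x = x := by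
    intro i
    induction i with
    | zero => simp
    | succ i ih => rw [mul_add, mul_one, pow_succ', pow_succ', MulAut.mul_apply, MulAut.mul_apply, ih, hxy, hyx]
  obtain ⟨k, hk⟩ := hodd
  have h3 : ((ρ a) ^ Nat.card Γ) x = x := by rw [← map_pow, pow_card_eq_one', map_one, MulAut.one_apply]
  rw [hk, pow_succ', MulAut.mul_apply, h2, hxy] at h3
  exact h3

/-- A homocyclic group of order sixteen, with its rotation. -/
theorem exists_data (hodd : Odd (Nat.card Γ)) (h2 : IsPGroup 2 X) (hg : Gen ρ) (h8 : NoEight X)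
    (hna : ∃ x y : X, x * y ≠ y * x)
    (hex : ∃ N : Subgroup X, N.Normal ∧ (∀ a ∈ N, ∀ b ∈ N, a * b = b * a) ∧ Invar ρ N ∧ ¬ N ≤ center X) :
    ∃ (N : Subgroup X) (hA : MaxFour N) (F : Frame hA) (φ : Γ), Invar ρ N ∧ ¬ N ≤ center X ∧
      omA hA ≤ center X ∧ ∀ v, ρ φ (F.iota v) = F.iota (app rotM v) := by
  haveI : Fact (Nat.Prime 2) := ⟨Nat.prime_two⟩
  haveI := h2.isNilpotent
  obtain ⟨N, ⟨hNn, hNc, hNi, hNz⟩, hmin⟩ := (Set.toFinite {N : Subgroup X | N.Normal ∧
    (∀ a ∈ N, ∀ b ∈ N, a * b = b * a) ∧ Invar ρ N ∧ ¬ N ≤ center X}).exists_minimal hex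
  let O : Subgroup X :=
    { carrier := {a | a ∈ N ∧ a ^ 2 = 1}
      one_mem' := ⟨one_mem _, one_pow _⟩
      mul_mem' := fun {a b} ha hb => ⟨mul_mem ha.1 hb.1, by
        rw [(show Commute a b from hNc a ha.1 b hb.1).mul_pow, ha.2, hb.2, one_mul]⟩
      inv_mem' := fun {a} ha => ⟨inv_mem ha.1, by rw [inv_pow, ha.2, inv_one]⟩ }
  have hON : O ≤ N := fun a ha => ha.1
  haveI hOn : O.Normal := ⟨fun a ha g => ⟨hNn.conj_mem a ha.1 g, by rw [conj_pow, ha.2]; simp⟩⟩
  have hOi : Invar ρ O := fun a x hx => ⟨hNi a x hx.1, by rw [← map_pow, hx.2, map_one]⟩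
  have hO4 : Nat.card O ≤ 4 :=
    h8 O hOn ⟨⟨fun a b => Subtype.ext (hNc _ a.2.1 _ b.2.1)⟩⟩ fun _ ha => ha.2
  obtain ⟨φ, e₁, he₁, hmove⟩ : ∃ φ, ∃ e ∈ O, ρ φ e ≠ e := by
    by_contra hc
    push Not at hc
    exact hNz (central_of_fixed hg hNn fun a =>
      fixed_of_omega ρ hodd h2 a hNc hNi fun x hx hx2 => hc a x ⟨hx, hx2⟩)
  set e₂ := ρ φ e₁ with he₂def
  have he₂ : e₂ ∈ O := hOi φ e₁ he₁
  have h1 : e₁ ≠ 1 := by rintro rfl; exact hmove (map_one _)
  have h1' : e₂ ≠ 1 := fun e => h1 ((ρ φ).injective (by rw [← he₂def, e, map_one]))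
  have hall := four_all hO4 he₁ he₂ h1 h1' hmove.symm he₁.2
  have h12 : ρ φ e₂ = e₁ * e₂ := by
    rcases hall _ (hOi φ e₂ he₂) with e | e | e | e
    · exact absurd ((ρ φ).injective (e.trans (map_one _).symm)) h1'
    · exact absurd (no_two_cycle hodd φ he₂def.symm e) hmove
    · exact absurd ((ρ φ).injective (e.trans he₂def)) hmove
    · exact e
  have hcom12 : e₁ * e₂ = e₂ * e₁ := hNc _ he₁.1 _ he₂.1
  have hee : e₁ * e₁ = 1 := by rw [← pow_two, he₁.2]
  have hee' : e₂ * e₂ = 1 := by rw [← pow_two, he₂.2]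
  have h3 : ρ φ (e₁ * e₂) = e₁ := by rw [map_mul, ← he₂def, h12, hcom12, ← mul_assoc, hee', one_mul]
  -- a set stable under the rotation containing one nontrivial involution contains all
  have horb : ∀ P : X → Prop, P 1 → (∀ x, P x → P (ρ φ x)) → ∀ z ∈ O, z ≠ 1 → P z → ∀ x ∈ O, P x := by
    intro P hP1 hP z hz hz1 hPz
    have h123 : P e₁ ∧ P e₂ ∧ P (e₁ * e₂) := by
      rcases hall z hz with rfl | rfl | rfl | rfl
      · exact absurd rfl hz1
      · exact ⟨hPz, hP _ hPz, by rw [← h12]; exact hP _ (hP _ hPz)⟩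
      · exact ⟨by rw [← h3, ← h12]; exact hP _ (hP _ hPz), hPz, by rw [← h12]; exact hP _ hPz⟩
      · exact ⟨by rw [← h3]; exact hP _ hPz, by
          have := hP _ (hP _ hPz)
          rwa [h3, ← he₂def] at this, hPz⟩
    intro x hx
    rcases hall x hx with rfl | rfl | rfl | rfl
    exacts [hP1, h123.1, h123.2.1, h123.2.2]
  have hOne : O ≠ ⊥ := fun e => h1 (mem_bot.1 (e ▸ he₁))
  have hOc : O ≤ center X := by
    obtain ⟨z, hz, hz1⟩ := (Subgroup.bot_or_exists_ne_one _).resolve_left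
      (CfsgLib.inf_center_ne_bot_of_nilpotent hOne)
    exact fun x hx => horb (fun y => y ∈ center X) (one_mem _)
      (fun y hy => invar_of_characteristic ρ (center X) inferInstance φ y hy) z hz.1 hz1 hz.2 x hx
  obtain ⟨b, hbN, hb2, hb4⟩ : ∃ b ∈ N, b ^ 2 ≠ 1 ∧ b ^ 4 = 1 := by
    classical
    obtain ⟨a, haN, ha⟩ : ∃ a ∈ N, a ^ 2 ≠ 1 := by
      by_contra hc
      push Not at hc
      exact hNz fun a ha => hOc ⟨ha, hc a ha⟩
    have hk := Nat.find_spec (h2 a)
    have hk2 : 2 ≤ Nat.find (h2 a) := by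
      by_contra hlt
      apply ha
      rcases Nat.eq_zero_or_pos (Nat.find (h2 a)) with h0 | h0
      · rw [h0, pow_zero, pow_one] at hk; rw [hk, one_pow]
      · rwa [show Nat.find (h2 a) = 1 by omega, pow_one] at hk
    refine ⟨a ^ 2 ^ (Nat.find (h2 a) - 2), pow_mem haN _, fun e => ?_, ?_⟩
    · rw [← pow_mul, ← pow_succ] at e
      exact Nat.find_min (h2 a) (show Nat.find (h2 a) - 2 + 1 < Nat.find (h2 a) by omega) e
    · rw [← pow_mul, show (4 : ℕ) = 2 ^ 2 from rfl, ← pow_add,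
        show Nat.find (h2 a) - 2 + 2 = Nat.find (h2 a) by omega]
      exact hk
  have hroot : ∀ e ∈ O, ∃ a ∈ N, a ^ 2 = e := by
    have hb : b ^ 2 ∈ O := ⟨pow_mem hbN 2, by rw [← pow_mul]; exact hb4⟩
    exact horb (fun y => ∃ a ∈ N, a ^ 2 = y) ⟨1, one_mem _, one_pow _⟩
      (fun y ⟨a, ha, hay⟩ => ⟨ρ φ a, hNi φ a ha, by rw [← map_pow, hay]⟩) _ hb hb2 ⟨b, hbN, rfl⟩
  let N₄ : Subgroup X :=
    { carrier := {a | a ∈ N ∧ a ^ 4 = 1}
      one_mem' := ⟨one_mem _, one_pow _⟩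
      mul_mem' := fun {a b} ha hb => ⟨mul_mem ha.1 hb.1, by
        rw [(show Commute a b from hNc a ha.1 b hb.1).mul_pow, ha.2, hb.2, one_mul]⟩
      inv_mem' := fun {a} ha => ⟨inv_mem ha.1, by rw [inv_pow, ha.2, inv_one]⟩ }
  have hON₄ : O ≤ N₄ := fun a ha => ⟨ha.1, by rw [show (4 : ℕ) = 2 * 2 from rfl, pow_mul, ha.2, one_pow]⟩
  have hOcard : 4 ≤ Nat.card O := four_le_card he₁ he₂ h1 h1' hmove.symm he₁.2
  have hM₄ : MaxFour N₄ := by
    refine ⟨⟨fun a ha g => ⟨hNn.conj_mem a ha.1 g, by rw [conj_pow, ha.2]; simp⟩⟩,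
      fun a ha b hb => hNc a ha.1 b hb.1, fun a ha => ha.2, fun B hBn hBc hB4 hle => le_antisymm (fun b hb => ?_) hle⟩
    let OB : Subgroup X :=
      { carrier := {a | a ∈ B ∧ a ^ 2 = 1}
        one_mem' := ⟨one_mem _, one_pow _⟩
        mul_mem' := fun {a b} ha hb => ⟨mul_mem ha.1 hb.1, by
          rw [(show Commute a b from hBc a ha.1 b hb.1).mul_pow, ha.2, hb.2, one_mul]⟩
        inv_mem' := fun {a} ha => ⟨inv_mem ha.1, by rw [inv_pow, ha.2, inv_one]⟩ }
    have hOBn : OB.Normal := ⟨fun a ha g => ⟨hBn.conj_mem a ha.1 g, by rw [conj_pow, ha.2]; simp⟩⟩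
    have heq : O = OB := eq_of_le_of_card_ge (fun a ha => ⟨hle (hON₄ ha), ha.2⟩)
      ((h8 OB hOBn ⟨⟨fun a b => Subtype.ext (hBc _ a.2.1 _ b.2.1)⟩⟩ fun _ ha => ha.2).trans hOcard)
    have hsq : b ^ 2 ∈ O := by rw [heq]; exact ⟨pow_mem hb 2, by rw [← pow_mul]; exact hB4 b hb⟩
    obtain ⟨a, haN, hab⟩ := hroot _ hsq
    have ha4 : a ∈ N₄ := ⟨haN, by rw [show (4 : ℕ) = 2 * 2 from rfl, pow_mul, hab, hsq.2]⟩
    have hd : a⁻¹ * b ∈ O := by
      rw [heq]
      refine ⟨mul_mem (inv_mem (hle ha4)) hb, ?_⟩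
      rw [(show Commute a⁻¹ b from hBc _ (inv_mem (hle ha4)) _ hb).mul_pow, inv_pow, hab, inv_mul_cancel]
    have := mul_mem ha4 (hON₄ hd)
    rwa [mul_inv_cancel_left] at this
  have hN₄z : ¬ N₄ ≤ center X := by
    intro hz
    have hC : ∀ x : X, x ∈ centralizer (N₄ : Set X) := fun x n hn => (mem_center_iff.1 (hz hn) x).symm
    have hfc : FourCentral X := fun x hx y => (mem_center_iff.1 (hz (hM₄.mem_of_four h2 (hC x) hx)) y).symm
    have hle : omegaOne hfc ≤ O := fun x hx => by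
      have hx2 := (mem_omegaOne hfc).1 hx
      exact ⟨(hM₄.mem_of_four h2 (hC x) (by rw [show (4 : ℕ) = 2 * 2 from rfl, pow_mul, hx2, one_pow])).1, hx2⟩
    obtain ⟨x, y, hxy⟩ := hna
    exact hxy (commutative_of_fourCentral hodd h2 hg hfc
      ((Nat.card_le_card_of_injective _ (inclusion_injective hle)).trans hO4) x y)
  have hN4 : N ≤ N₄ := hmin ⟨hM₄.normal, hM₄.comm, fun a x hx => ⟨hNi a x hx.1, by
    rw [← map_pow, hx.2, map_one]⟩, hN₄z⟩ (fun x hx => hx.1)
  have hA : MaxFour N := by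
    rwa [le_antisymm hN4 (fun x hx => hx.1)]
  have homA : ∀ x, x ∈ omA hA ↔ x ∈ O := fun x => Iff.rfl
  obtain ⟨a₁, ha₁, ha₁'⟩ := hroot e₁ he₁
  let F : Frame hA :=
    { e₁ := e₁, e₂ := e₂, a₁ := a₁, a₂ := ρ φ a₁, he₁ := he₁, he₂ := he₂, ne₁ := h1, ne₂ := h1'
      ne := hmove.symm, all := hall, ha₁ := ha₁, ha₂ := hNi φ a₁ ha₁, sq₁ := ha₁'
      sq₂ := by rw [← map_pow, ha₁']
      act := fun g => Or.inl fun e he => (mem_center_iff.1 (hOc ((homA e).1 he)) g).symm }
  refine ⟨N, hA, F, φ, hNi, hNz, fun x hx => hOc ((homA x).1 hx), fun v => ?_⟩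
  rcases v2_cases v with rfl | rfl | rfl | rfl
  · rw [rotM_app.1, F.iota_zero, map_one]
  · rw [rotM_app.2.1, F.iota_one₁, F.iota_one₂]
  · rw [rotM_app.2.2.1, F.iota_add, F.iota_one₁, F.iota_one₂]
    exact h12
  · rw [rotM_app.2.2.2, F.iota_add, F.iota_one₁, F.iota_one₂]
    exact h3

/-- The case of a noncentral invariant normal abelian subgroup. -/
theorem case_noncentral (hodd : Odd (Nat.card Γ)) (h2 : IsPGroup 2 X) (hg : Gen ρ) (h8 : NoEight X)
    (hna : ∃ x y : X, x * y ≠ y * x)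
    (hex : ∃ N : Subgroup X, N.Normal ∧ (∀ a ∈ N, ∀ b ∈ N, a * b = b * a) ∧ Invar ρ N ∧ ¬ N ≤ center X) :
    Cfsg.IsSpecial 2 X ∧ Nat.card X = 64 ∧ Nat.card {x : X // orderOf x = 2} = 3 ∧
      ∀ x : X, orderOf x = 2 → x ∈ center X := by
  classical
  haveI : Fact (Nat.Prime 2) := ⟨Nat.prime_two⟩
  obtain ⟨N, hA, F, φ, hNi, hNz, hOc, hφ⟩ := exists_data hodd h2 hg h8 hna hex
  haveI := hA.normal
  have hCE : ∀ x : X, x ∈ centralizer (omA hA : Set X) := fun x e he => (mem_center_iff.1 (hOc he) x).symm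
  choose μ hμ using fun x => F.exists_mu (hCE x)
  have hμmul : ∀ x y, μ (x * y) = μ x + μ y := fun x y => F.mu_unique (hμ _) (F.mu_mul (hμ x) (hμ y))
  have hμinv : ∀ x, μ x⁻¹ = μ x := fun x => F.mu_unique (hμ _) (F.mu_inv (hμ x))
  have hμC : ∀ x, x ∈ centralizer (N : Set X) → μ x = 0 := fun x hx =>
    F.mu_unique (hμ x) (F.mu_of_centralizer hx)
  have hμker : ∀ x, μ x = 0 → x ∈ centralizer (N : Set X) := fun x hx =>
    F.mem_centralizer_of_mu (hx ▸ hμ x)
  -- the action on the involutions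
  have hT : ∀ a, ∃ T, (T = idM ∨ T = rotM ∨ T = rotM2) ∧ ∀ v, ρ a (F.iota v) = F.iota (app T v) := by
    intro a
    have him : ∀ v, ρ a (F.iota v) ∈ omA hA := fun v =>
      ⟨hNi a _ (F.iota_mem v).1, by rw [← map_pow, (F.iota_mem v).2, map_one]⟩
    obtain ⟨d₁, hd₁⟩ := F.iota_surj (him (1, 0))
    obtain ⟨d₂, hd₂⟩ := F.iota_surj (him (0, 1))
    obtain ⟨T, hT₁, hT₂⟩ := exists_app d₁ d₂
    have hlin : ∀ v, ρ a (F.iota v) = F.iota (app T v) := fun v => by
      rcases v2_cases v with rfl | rfl | rfl | rfl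
      · rw [show app T 0 = 0 by simp [app], F.iota_zero, map_one]
      · rw [hT₁, hd₁]
      · rw [hT₂, hd₂]
      · rw [app_add_right, hT₁, hT₂, F.iota_add, F.iota_add, map_mul, hd₁, hd₂]
    have hinj : MacWilliams.Inv T := fun v hv => F.iota_eq_one ((ρ a).injective (by
      rw [hlin, hv, F.iota_zero, map_one]))
    refine ⟨T, ?_, hlin⟩
    rcases inv_cases T hinj with h | h | h
    · refine Or.inl (app_ext _ _ fun v => ?_)
      rw [app_idM]
      exact F.iota_inj (no_two_cycle hodd a (hlin v) (by rw [hlin, h]))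
    · exact Or.inr (Or.inl h)
    · exact Or.inr (Or.inr h)
  have hrel : ∀ a x T, (∀ v, ρ a (F.iota v) = F.iota (app T v)) →
      ∀ v, app (μ (ρ a x)) (app T v) = app T (app (μ x) v) := by
    intro a x T hlin v
    obtain ⟨b, hb, hbv⟩ := F.exists_root v
    have e1 := (hμ (ρ a x)).2 _ (hNi a b hb) (app T v) (by rw [← map_pow, hbv, hlin])
    have e2 : ρ a (x * b * x⁻¹) = F.iota (app T (app (μ x) v)) * ρ a b := by
      rw [(hμ x).2 b hb v hbv, map_mul, hlin]
    rw [map_mul, map_mul, map_inv] at e2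
    exact F.iota_inj (mul_right_cancel (e1.symm.trans e2))
  have hJ : ∀ x, InJ (μ x) := by
    let S : Subgroup X :=
      { carrier := {x | InJ (μ x)}
        one_mem' := by show InJ (μ 1); rw [hμC 1 (one_mem _)]; exact inJ_zero
        mul_mem' := fun {x y} hx hy => by show InJ (μ (x * y)); rw [hμmul]; exact inJ_add _ _ hx hy
        inv_mem' := fun {x} hx => by show InJ (μ x⁻¹); rw [hμinv]; exact hx }
    have : S = ⊤ := eq_top_of_gen hg S fun a x => by
      show InJ (μ (x⁻¹ * ρ a x))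
      rw [hμmul, hμinv]
      obtain ⟨T, hT', hlin⟩ := hT a
      rcases hT' with rfl | rfl | rfl
      · exact gen_id _ _ fun v => by simpa [app_idM] using hrel a x _ hlin v
      · exact gen_rot _ _ (hrel a x _ hlin)
      · exact gen_rot2 _ _ (hrel a x _ hlin)
    exact fun x => (this ▸ mem_top x : x ∈ S)
  obtain ⟨x₀, hx₀⟩ : ∃ x₀, μ x₀ ≠ 0 := by
    by_contra hc
    push Not at hc
    exact hNz fun n hn => mem_center_iff.2 fun g => ((hμker g (hc g)) n hn).symm
  obtain ⟨hy0, hyne⟩ := inJ_rot _ _ (hJ x₀) hx₀ (hrel φ x₀ rotM hφ)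
  have hfull : ∀ L, InJ L → ∃ x, μ x = L := by
    intro L hL
    rcases inJ_span _ _ _ (hJ x₀) (hJ (ρ φ x₀)) hL hx₀ hy0 hyne with h | h | h | h
    exacts [⟨1, by rw [h, hμC 1 (one_mem _)]⟩, ⟨x₀, h.symm⟩, ⟨_, h.symm⟩,
      ⟨x₀ * ρ φ x₀, by rw [h, hμmul]⟩]
  -- the centraliser of `N`
  have hCN : ∀ c, c ∈ centralizer (N : Set X) → c ∈ N := by
    intro c hc
    by_contra hcN
    have hk := Nat.find_spec (h2 c)
    have hk3 : 3 ≤ Nat.find (h2 c) := by
      by_contra hlt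
      refine hcN (hA.mem_of_four h2 hc ?_)
      obtain ⟨i, hi⟩ : 2 ^ Nat.find (h2 c) ∣ 4 := pow_dvd_pow 2 (show Nat.find (h2 c) ≤ 2 by omega)
      rw [hi, pow_mul, hk, one_pow]
    set d := c ^ 2 ^ (Nat.find (h2 c) - 3) with hd
    have hd8 : d ^ 8 = 1 := by
      rw [hd, ← pow_mul, show (8 : ℕ) = 2 ^ 3 from rfl, ← pow_add,
        show Nat.find (h2 c) - 3 + 3 = Nat.find (h2 c) by omega]
      exact hk
    have hd4 : d ^ 4 ≠ 1 := by
      rw [hd, ← pow_mul, show (4 : ℕ) = 2 ^ 2 from rfl, ← pow_add]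
      exact Nat.find_min (h2 c) (by omega)
    have hdC : d ∈ centralizer (N : Set X) := pow_mem hc _
    have ha : d ^ 2 ∈ N := hA.mem_of_four h2 (pow_mem hdC 2) (by rw [← pow_mul]; exact hd8)
    obtain ⟨v, hv⟩ := F.iota_surj (sq_mem_omA hA ha)
    have hv0 : v ≠ 0 := by
      rintro rfl
      rw [F.iota_zero, ← pow_mul] at hv
      exact hd4 hv.symm
    have hMv : ∀ L, InJ L → L ≠ 0 → app L v = v := by
      intro L hL hL0
      obtain ⟨x, hx⟩ := hfull L hL
      obtain ⟨w, hw, hw4⟩ := F.norm_of_inv h2 (inJ_inv L hL hL0) (hx ▸ hμ x)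
      have hwc : w ^ 2 ∈ center X := hOc ⟨hA.mem_of_four h2 (F.sq_mem_centralizer hw)
        (by rw [show (4 : ℕ) = 2 * 2 from rfl, pow_mul, hw4, one_pow]), hw4⟩
      obtain ⟨b, hb, hbv⟩ := F.exists_root (app L v)
      have hd'C : w * d * w⁻¹ ∈ centralizer (N : Set X) := Normal.conj_mem inferInstance _ hdC w
      have hdb : d * b ∈ centralizer (N : Set X) := mul_mem hdC fun m hm => hA.comm m hm b hb
      have hbd : Commute d b := (hdC b hb).symm
      have hsq : (d * b) ^ 2 = (w * d * w⁻¹) ^ 2 := by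
        rw [conj_pow, hw.2 _ ha v hv.symm, hbd.mul_pow, hbv]
        exact (mem_center_iff.1 (hOc (F.iota_mem _)) _)
      set C := centralizer (N : Set X)
      have key := sq_inj (h2.to_subgroup C) (fourCentral h2 hA (le_refl C)) (x := ⟨d * b, hdb⟩)
        (y := ⟨w * d * w⁻¹, hd'C⟩) (Subtype.ext hsq)
      have key' : ((d * b)⁻¹ * (w * d * w⁻¹)) ^ 2 = 1 := congrArg Subtype.val key
      set o := (d * b)⁻¹ * (w * d * w⁻¹) with ho
      have hoN : o ∈ N := hA.mem_of_four h2 (mul_mem (inv_mem hdb) hd'C)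
        (by rw [show (4 : ℕ) = 2 * 2 from rfl, pow_mul, key', one_pow])
      set n := b * o with hn
      have hnN : n ∈ N := mul_mem hb hoN
      have hn2 : n ^ 2 = F.iota (app L v) := by
        rw [hn, (show Commute b o from hA.comm b hb o hoN).mul_pow, key', mul_one, hbv]
      have hwd : w * d * w⁻¹ = d * n := by rw [hn, ho]; group
      have e : d = d * (n * (F.iota (app L (app L v)) * n)) := by
        calc d = w ^ 2 * d * (w ^ 2)⁻¹ := by rw [← mem_center_iff.1 hwc d, mul_inv_cancel_right]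
          _ = (w * d * w⁻¹) * ((w * d * w⁻¹)⁻¹ * (w * (w * d * w⁻¹) * w⁻¹)) := by rw [pow_two]; group
          _ = (d * n) * ((d * n)⁻¹ * (w * (d * n) * w⁻¹)) := by rw [hwd]
          _ = (w * d * w⁻¹) * (w * n * w⁻¹) := by group
          _ = d * n * (F.iota (app L (app L v)) * n) := by rw [hwd, hw.2 n hnN _ hn2]
          _ = _ := by group
      have e2 : F.iota (app L v + app L (app L v)) = 1 := by
        rw [F.iota_add, ← hn2, pow_two, mul_assoc, hA.comm n hnN _ (F.iota_mem _).1]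
        exact (mul_eq_left.1 e.symm)
      have e3 : app L (v + app L v) = 0 := by rw [app_add_right]; exact F.iota_eq_one e2
      have e4 := inJ_inv L hL hL0 _ e3
      calc app L v = (v + app L v) + v := by rw [add_comm v (app L v), add_assoc, v2_self_add, add_zero]
        _ = v := by rw [e4, zero_add]
    exact hv0 (inJ_fixed _ _ (hJ x₀) (hJ (ρ φ x₀)) hx₀ hy0 hyne v (hMv _ (hJ _) hx₀) (hMv _ (hJ _) hy0))
  -- squares
  have hsq : ∀ x, x ^ 2 ∈ omA hA := by
    intro x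
    by_cases hx : μ x = 0
    · exact sq_mem_omA hA (hCN x (hμker x hx))
    have hN2 : x ^ 2 ∈ N := hCN _ (F.sq_mem_centralizer (hμ x))
    obtain ⟨v, hv⟩ := F.iota_surj (sq_mem_omA hA hN2)
    have e := (hμ x).2 _ hN2 v hv.symm
    rw [((Commute.refl x).pow_right 2).eq, mul_inv_cancel_right] at e
    exact ⟨hN2, F.eq_zero_of_sq hv.symm (inJ_inv _ (hJ x) hx v (F.iota_eq_one (mul_eq_right.1 e.symm)))⟩
  have hcomm : ∀ x y : X, ⁅x, y⁆ ∈ omA hA := fun x y => by
    rw [commutator_eq_sq]; exact mul_mem (mul_mem (hsq x) (hsq _)) (inv_mem (hsq y))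
  have hO4 : Nat.card (omA hA) = 4 := by
    rw [← Nat.card_congr (Equiv.ofBijective (fun v => (⟨F.iota v, F.iota_mem v⟩ : omA hA))
      ⟨fun v w h => F.iota_inj (congrArg Subtype.val h), fun e => ⟨(F.iota_surj e.2).choose,
        Subtype.ext (F.iota_surj e.2).choose_spec⟩⟩)]
    simp
  have hinvol : ∀ x : X, x ^ 2 = 1 → x ∈ omA hA := fun x hx =>
    mem_of_sq_eq_one h8 hOc hO4.ge (fun o ho => ho.2) hcomm hx
  have hcenter : center X = omA hA := by
    refine le_antisymm (fun z hz => ?_) hOc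
    have hzN : z ∈ N := hCN z fun m _ => mem_center_iff.1 hz m
    obtain ⟨v, hv⟩ := F.iota_surj (sq_mem_omA hA hzN)
    have e := (hμ x₀).2 z hzN v hv.symm
    rw [mem_center_iff.1 hz x₀, mul_inv_cancel_right] at e
    exact ⟨hzN, F.eq_zero_of_sq hv.symm (inJ_inv _ (hJ x₀) hx₀ v (F.iota_eq_one (mul_eq_right.1 e.symm)))⟩
  have hder : commutator X = omA hA := by
    refine le_antisymm ?_ fun e he => ?_
    · rw [commutator_def, Subgroup.commutator_le]; exact fun x _ y _ => hcomm x y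
    · obtain ⟨d, rfl⟩ := F.iota_surj he
      obtain ⟨v, hv⟩ := surj_of_inv _ (inJ_inv _ (hJ x₀) hx₀) d
      obtain ⟨b, hb, hbv⟩ := F.exists_root v
      have e := (hμ x₀).2 b hb v hbv
      rw [hv] at e
      have : ⁅x₀, b⁆ = F.iota d := by rw [commutatorElement_def, e, mul_inv_cancel_right]
      rw [← this]
      exact Subgroup.commutator_mem_commutator (mem_top _) (mem_top _)
  have hspec : Cfsg.IsSpecial 2 X := by
    refine ⟨h2, ?_, hder.trans hcenter.symm⟩
    rw [hcenter]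
    exact le_antisymm (RankFrattini.frattini_le_of_elementary h2 _ hcomm hsq)
      (hder ▸ CfsgLib.commutator_le_frattini_pGroup h2)
  refine ⟨hspec, ?_, ?_, fun x hx => hcenter ▸ hinvol x (hx ▸ pow_orderOf_eq_one x)⟩
  · let ψ : X →* Multiplicative M4 := MonoidHom.mk' (fun x => Multiplicative.ofAdd (μ x)) fun x y => by
      rw [← ofAdd_add, hμmul]
    have hψker : ψ.ker = N := by
      ext x
      refine ⟨fun h => hCN x (hμker x (by simpa [ψ] using h)), fun h => ?_⟩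
      have := hμC x fun m hm => hA.comm m hm x h
      simp [ψ, this]
    have hψr : Nat.card ψ.range = 4 := by
      rw [← card_inJ]
      refine (Nat.card_congr (Equiv.ofBijective (fun L : {M // InJ M} =>
        (⟨Multiplicative.ofAdd L.1, (hfull L.1 L.2).choose,
          congrArg Multiplicative.ofAdd (hfull L.1 L.2).choose_spec⟩ : ψ.range)) ⟨fun L L' h =>
            Subtype.ext (Multiplicative.ofAdd.injective (congrArg Subtype.val h :)), ?_⟩)).symm
      rintro ⟨_, x, rfl⟩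
      exact ⟨⟨μ x, hJ x⟩, rfl⟩
    let sN : N →* X := MonoidHom.mk' (fun a => (a : X) ^ 2) fun a b =>
      (show Commute (a : X) b from hA.comm _ a.2 _ b.2).mul_pow 2
    have hsr : sN.range = omA hA := by
      ext e
      refine ⟨?_, fun he => ?_⟩
      · rintro ⟨a, rfl⟩; exact sq_mem_omA hA a.2
      · obtain ⟨v, rfl⟩ := F.iota_surj he
        obtain ⟨b, hb, hbv⟩ := F.exists_root v
        exact ⟨⟨b, hb⟩, hbv⟩
    have hsk : Nat.card sN.ker = 4 := by
      rw [← hO4]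
      exact Nat.card_congr
        { toFun := fun a => ⟨a.1.1, a.1.2, a.2⟩
          invFun := fun a => ⟨⟨a.1, a.2.1⟩, a.2.2⟩
          left_inv := fun _ => rfl
          right_inv := fun _ => rfl }
    have hN16 : Nat.card N = 16 := by
      rw [← sN.ker.card_mul_index, Subgroup.index_ker, hsr, hsk, hO4]
    rw [← ψ.ker.card_mul_index, Subgroup.index_ker, hψr, hψker, hN16]
  · have : Nat.card {x : X // orderOf x = 2} = Nat.card {v : V2 // v ≠ 0} := by
      refine (Nat.card_congr (Equiv.ofBijective (fun v : {v : V2 // v ≠ 0} =>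
        (⟨F.iota v.1, orderOf_eq_prime (F.iota_mem v.1).2 fun e => v.2 (F.iota_eq_one e)⟩ :
          {x : X // orderOf x = 2})) ⟨fun v w h => Subtype.ext (F.iota_inj (congrArg Subtype.val h)), ?_⟩)).symm
      rintro ⟨x, hx⟩
      obtain ⟨v, hv⟩ := F.iota_surj (hinvol x (hx ▸ pow_orderOf_eq_one x))
      refine ⟨⟨v, ?_⟩, Subtype.ext hv⟩
      rintro rfl
      rw [F.iota_zero] at hv
      rw [← hv, orderOf_one] at hx
      omega
    rw [this, card_v2_ne]

end CfsgLib.ThompsonLemma
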