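/-
Extraspecial groups of order 32 without normal elementary abelian subgroups of order eight.
-/
import Cfsg.Agent.Lib.ThompsonLemma.Central

set_option autoImplicit false

namespace CfsgLib.ThompsonLemma

open Subgroup CfsgLib.MacWilliams
open scoped commutatorElement

universe u

variable {X : Type u} [Group X]

/-- A Boolean power. -/
def bb (x : X) (a : Bool) : X := cond a x 1

theorem map_bb {Y : Type*} [Group Y] (f : X →* Y) (x : X) (a : Bool) : f (bb x a) = bb (f x) a := by
  cases a <;> simp [bb]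

theorem bb_one (a : Bool) : bb (1 : X) a = 1 := by cases a <;> simp [bb]

theorem bb_inj {z : X} (hz : z ≠ 1) {a b : Bool} (h : bb z a = bb z b) : a = b := by
  cases a <;> cases b <;> simp [bb, hz, eq_comm] at h ⊢ <;> simp_all

theorem count_bool :
    Nat.card {p : Bool × Bool × Bool × Bool × Bool // (p.1 && p.2.1) = (p.2.2.1 || p.2.2.2.1) ∧
      p ≠ (false, false, false, false, false)} = 11 := by
  rw [Nat.card_eq_fintype_card]
  decide +kernel

variable [Finite X]

theorem exists_third {z : X} (hZ : ∀ g ∈ center X, g = 1 ∨ g = z) (S : Subgroup X) (hS : 4 < Nat.card S) (w : X) :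
    ∃ g ∈ S, g ∉ center X ∧ w⁻¹ * g ∉ center X := by
  classical
  by_contra hc
  push Not at hc
  haveI : Fintype S := Fintype.ofFinite _
  let t : Finset X := {1, z, w, w * z}
  have h : ∀ g : S, (g : X) ∈ t := by
    intro g
    by_cases hg : (g : X) ∈ center X
    · rcases hZ _ hg with e | e <;> simp [t, e]
    · rcases hZ _ (hc g.1 g.2 hg) with e | e
      · rw [inv_mul_eq_one] at e; simp [t, ← e]
      · rw [inv_mul_eq_iff_eq_mul] at e; simp [t, e]
  have := Nat.card_le_card_of_injective (fun g : S => (⟨g.1, h g⟩ : t)) fun g g' e =>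
    Subtype.ext (congrArg Subtype.val e :)
  rw [Nat.card_eq_fintype_card (α := t), Fintype.card_coe] at this
  have ht : t.card ≤ 4 := Finset.card_le_four
  omega

/-- The number of involutions. -/
theorem involutions_eleven (h8 : NoEight X) (hs : Small X) (hsq : ∀ x : X, x ^ 2 ∈ center X)
    (hZ : Nat.card (center X) = 2) (hX : Nat.card X = 32) : Nat.card {x : X // orderOf x = 2} = 11 := by
  classical
  haveI : Fact (Nat.Prime 2) := ⟨Nat.prime_two⟩
  obtain ⟨⟨z, hzc⟩, hz1⟩ : ∃ z : center X, z ≠ 1 := by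
    haveI : Nontrivial (center X) := Finite.one_lt_card_iff_nontrivial.1 (by omega)
    exact exists_ne 1
  have hz1' : z ≠ 1 := fun e => hz1 (Subtype.ext e)
  have hcent : ∀ g ∈ center X, g = 1 ∨ g = z := by
    intro g hg
    haveI : Fintype (center X) := Fintype.ofFinite _
    by_contra hc
    push Not at hc
    let s : Finset (center X) := {1, ⟨z, hzc⟩, ⟨g, hg⟩}
    have : s.card = 3 := by
      simp only [s]
      rw [Finset.card_insert_of_notMem, Finset.card_insert_of_notMem, Finset.card_singleton]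
      · simp only [Finset.mem_singleton, Subtype.mk.injEq]; exact fun e => hc.2 e.symm
      · simp only [Finset.mem_insert, Finset.mem_singleton, not_or]
        exact ⟨fun e => hz1' (congrArg Subtype.val e).symm, fun e => hc.1 (congrArg Subtype.val e).symm⟩
    have := this ▸ Finset.card_le_univ s
    rw [← Nat.card_eq_fintype_card, hZ] at this
    omega
  have hzz : z ^ 2 = 1 := by
    rcases hcent _ (pow_mem hzc 2) with e | e
    · exact e
    · exact absurd (mul_eq_left.1 (show z * z = z by rw [← pow_two]; exact e)) hz1'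
  have hcomm : ∀ a b : X, ⁅a, b⁆ = 1 ∨ ⁅a, b⁆ = z := fun a b => hcent _ (hs a b).1
  have hker : ∀ t : X, 16 ≤ Nat.card (hs.psi t).ker := by
    intro t
    have hr : (hs.psi t).range ≤ center X := by rintro _ ⟨g, rfl⟩; exact (hs g t).1
    have h1 := (hs.psi t).ker.card_mul_index
    rw [Subgroup.index_ker, hX] at h1
    have h2 := Nat.card_le_card_of_injective _ (inclusion_injective hr)
    rw [hZ] at h2
    nlinarith
  obtain ⟨x, hxc, hx2⟩ : ∃ x, x ∉ center X ∧ x ^ 2 = 1 := by
    by_contra hc
    push Not at hc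
    obtain ⟨a, -, ha, -⟩ := exists_third hcent (⊤ : Subgroup X) (by rw [Subgroup.card_top]; omega) 1
    obtain ⟨b, hb, hbc, hab⟩ := exists_third hcent (hs.psi a).ker (by have := hker a; omega) a
    have hb' : ⁅a, b⁆ = 1 := by rw [hs.comm_swap b a]; exact hb
    have hab2 : (a * b) ^ 2 = 1 := by
      rw [hs.sq_mul, hb', mul_one, (hcent _ (hsq a)).resolve_left (hc a ha), (hcent _ (hsq b)).resolve_left (hc b hbc),
        ← pow_two, hzz]
    refine hab ?_
    have : a * b ∈ center X := by_contra fun h => hc _ h hab2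
    have h3 := mul_mem (inv_mem (hsq a)) this
    rwa [show (a ^ 2)⁻¹ * (a * b) = a⁻¹ * b by rw [pow_two]; group] at h3
  have hxx : x * x = 1 := by rw [← pow_two, hx2]
  obtain ⟨y, hxy, hy2⟩ : ∃ y : X, ⁅x, y⁆ = z ∧ y ^ 2 = 1 := by
    obtain ⟨y, hy⟩ : ∃ y : X, ⁅x, y⁆ ≠ 1 := by
      by_contra hc
      push Not at hc
      exact hxc (mem_center_iff.2 fun g => (commutatorElement_eq_one_iff_mul_comm.1 (hc g)).symm)
    have hy' := (hcomm x y).resolve_left hy
    rcases hcent _ (hsq y) with e | e
    · exact ⟨y, hy', e⟩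
    · refine ⟨y * x, ?_, ?_⟩
      · rw [hs.mul_right, commutatorElement_self, mul_one, hy']
      · rw [hs.sq_mul, hs.comm_swap x y, e, hx2, hy', mul_one, ← pow_two, hzz]
  let Q := (hs.psi x).ker ⊓ (hs.psi y).ker
  have hQ : 4 < Nat.card Q := by
    have h1 := Subgroup.index_inf_le (H := (hs.psi x).ker) (K := (hs.psi y).ker)
    have h2 := (hs.psi x).ker.card_mul_index
    have h3 := (hs.psi y).ker.card_mul_index
    have h4 := Q.card_mul_index
    rw [hX] at h2 h3 h4
    have k1 := hker x
    have k2 := hker y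
    have i1 : (hs.psi x).ker.index ≤ 2 := by
      by_contra hc; have := Nat.mul_le_mul k1 (show 3 ≤ (hs.psi x).ker.index by omega); omega
    have i2 : (hs.psi y).ker.index ≤ 2 := by
      by_contra hc; have := Nat.mul_le_mul k2 (show 3 ≤ (hs.psi y).ker.index by omega); omega
    by_contra hc
    have := Nat.mul_le_mul (show Nat.card Q ≤ 4 by omega) (show Q.index ≤ 2 * 2 from h1.trans (Nat.mul_le_mul i1 i2))
    omega
  have hQsq : ∀ q ∈ Q, q ∉ center X → q ^ 2 = z := by
    intro q hq hqc
    refine (hcent _ (hsq q)).resolve_left fun hq2 => ?_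
    have hqx : ⁅q, x⁆ = 1 := hq.1
    have hqy : ⁅q, y⁆ = 1 := hq.2
    let B := closure ({x, q, z} : Set X)
    have hxB : x ∈ B := subset_closure (by simp)
    have hqB : q ∈ B := subset_closure (by simp)
    have hzB : z ∈ B := subset_closure (by simp)
    have hZB : center X ≤ B := fun g hg => by rcases hcent g hg with rfl | rfl <;> [exact one_mem _; exact hzB]
    have hBn : B.Normal := ⟨fun b hb g => by
      have : g * b * g⁻¹ = ⁅g, b⁆ * b := by rw [commutatorElement_def, inv_mul_cancel_right]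
      rw [this]; exact mul_mem (hZB (hs g b).1) hb⟩
    have hqx' : q * x = x * q := commutatorElement_eq_one_iff_mul_comm.1 hqx
    haveI hBc : IsMulCommutative B := Subgroup.isMulCommutative_closure (by
      rintro a (rfl | rfl | rfl) b (rfl | rfl | rfl)
      all_goals first
        | rfl
        | exact hqx'
        | exact hqx'.symm
        | exact mem_center_iff.1 hzc _
        | exact (mem_center_iff.1 hzc _).symm)
    have hB2 : ∀ b ∈ B, b ^ 2 = 1 := by
      intro b hb
      induction hb using Subgroup.closure_induction with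
      | mem b hb => rcases hb with rfl | rfl | rfl <;> assumption
      | one => exact one_pow _
      | mul a b ha hb e e' =>
        have : Commute a b := congrArg (Subtype.val : B → X) (mul_comm' (⟨a, ha⟩ : B) ⟨b, hb⟩)
        rw [this.mul_pow, e, e', one_mul]
      | inv a _ e => rw [inv_pow, e, inv_one]
    haveI : Fintype B := Fintype.ofFinite _
    let s : Finset B := {1, ⟨x, hxB⟩, ⟨z, hzB⟩, ⟨x * z, mul_mem hxB hzB⟩, ⟨q, hqB⟩}
    have hxz : x ≠ z := fun e => hxc (e ▸ hzc)
    have hxzc : x * z ∉ center X := fun h => hxc (by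
      have := mul_mem h (inv_mem hzc); rwa [mul_inv_cancel_right] at this)
    have hqxz : q ≠ x ∧ q ≠ x * z := by
      constructor <;> intro e <;> rw [e] at hqy
      · rw [hxy] at hqy; exact hz1' hqy
      · rw [hs.mul_left, hxy, commutatorElement_eq_one_iff_mul_comm.2 (mem_center_iff.1 hzc y).symm, mul_one]
          at hqy
        exact hz1' hqy
    have hs5 : s.card = 5 := by
      simp only [s]
      rw [Finset.card_insert_of_notMem, Finset.card_insert_of_notMem, Finset.card_insert_of_notMem,
        Finset.card_insert_of_notMem, Finset.card_singleton]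
      · simp only [Finset.mem_singleton, Subtype.mk.injEq]; exact fun e => hqxz.2 e.symm
      · simp only [Finset.mem_insert, Finset.mem_singleton, Subtype.mk.injEq, not_or]
        exact ⟨fun e => hxzc (e ▸ hzc), fun e => hqc (e ▸ hzc)⟩
      · simp only [Finset.mem_insert, Finset.mem_singleton, Subtype.mk.injEq, not_or]
        exact ⟨hxz, fun e => hz1' (mul_eq_left.1 e.symm), fun e => hqxz.1 e.symm⟩
      · simp only [Finset.mem_insert, Finset.mem_singleton, not_or]
        have h1 : ∀ g, g ∉ center X → ∀ hg : g ∈ B, (1 : B) ≠ ⟨g, hg⟩ := fun g hg hgB e =>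
          hg (show (⟨g, hgB⟩ : B).1 ∈ center X by rw [← e]; exact one_mem _)
        exact ⟨h1 x hxc hxB, fun e => hz1' (congrArg Subtype.val e).symm, h1 _ hxzc _, h1 q hqc hqB⟩
    have h5 := hs5 ▸ Finset.card_le_univ s
    have := h8 B hBn hBc hB2
    rw [Nat.card_eq_fintype_card] at this
    omega
  obtain ⟨w₁, hw₁, hw₁c, -⟩ := exists_third hcent Q hQ 1
  obtain ⟨w₂, hw₂, hw₂c, hw12⟩ := exists_third hcent Q hQ w₁
  have hw1x : ⁅w₁, x⁆ = 1 := hw₁.1
  have hw1y : ⁅w₁, y⁆ = 1 := hw₁.2
  have hw2x : ⁅w₂, x⁆ = 1 := hw₂.1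
  have hw2y : ⁅w₂, y⁆ = 1 := hw₂.2
  have h1sq := hQsq _ hw₁ hw₁c
  have h2sq := hQsq _ hw₂ hw₂c
  have hw : ⁅w₁, w₂⁆ = z := by
    refine (hcomm w₁ w₂).resolve_left fun e => ?_
    have hc : w₁ * w₂ ∉ center X := fun h => hw12 (by
      have h3 := mul_mem (inv_mem (hsq w₁)) h
      rwa [show (w₁ ^ 2)⁻¹ * (w₁ * w₂) = w₁⁻¹ * w₂ by rw [pow_two]; group] at h3)
    have := hQsq _ (mul_mem hw₁ hw₂) hc
    rw [hs.sq_mul, e, h1sq, h2sq, mul_one, ← pow_two, hzz] at this
    exact hz1' this.symm
  let P : Bool × Bool × Bool × Bool × Bool → X := fun p =>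
    bb x p.1 * bb y p.2.1 * (bb w₁ p.2.2.1 * bb w₂ p.2.2.2.1) * bb z p.2.2.2.2
  have hcz : ∀ g : X, ⁅z, g⁆ = 1 := fun g => commutatorElement_eq_one_iff_mul_comm.2 (mem_center_iff.1 hzc g).symm
  have hP : Function.Injective P := by
    intro p q h
    have ha : p.1 = q.1 := bb_inj hz1' (by
      have := congrArg (hs.psi y) h
      simp only [P, map_mul, map_bb] at this
      simpa [Small.psi_apply, hxy, hw1y, hw2y, hcz, bb_one] using this)
    have hb : p.2.1 = q.2.1 := bb_inj hz1' (by
      have := congrArg (hs.psi x) h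
      simp only [P, map_mul, map_bb] at this
      simpa [Small.psi_apply, hs.comm_swap x y, hxy, hw1x, hw2x, hcz, bb_one] using this)
    have hc : p.2.2.1 = q.2.2.1 := bb_inj hz1' (by
      have := congrArg (hs.psi w₂) h
      simp only [P, map_mul, map_bb] at this
      simpa [Small.psi_apply, hs.comm_swap w₂ x, hs.comm_swap w₂ y, hw2x, hw2y, hw, hcz, bb_one]
        using this)
    have hd : p.2.2.2.1 = q.2.2.2.1 := bb_inj hz1' (by
      have := congrArg (hs.psi w₁) h
      simp only [P, map_mul, map_bb] at this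
      simpa [Small.psi_apply, hs.comm_swap w₁ x, hs.comm_swap w₁ y, hw1x, hw1y, hs.comm_swap w₁ w₂, hw,
        hcz, bb_one] using this)
    have he : p.2.2.2.2 = q.2.2.2.2 := by
      simp only [P, ha, hb, hc, hd] at h
      exact bb_inj hz1' (mul_left_cancel h)
    exact Prod.ext ha (Prod.ext hb (Prod.ext hc (Prod.ext hd he)))
  have hPb : Function.Bijective P := by
    haveI := Fintype.ofFinite X
    refine (Fintype.bijective_iff_injective_and_card P).2 ⟨hP, ?_⟩
    rw [← Nat.card_eq_fintype_card, ← Nat.card_eq_fintype_card, hX]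
    simp
  have hPsq : ∀ p, (P p) ^ 2 = 1 ↔ (p.1 && p.2.1) = (p.2.2.1 || p.2.2.2.1) := by
    rintro ⟨a, b, c, d, e⟩
    have hA : (bb x a * bb y b) ^ 2 = bb z (a && b) := by
      cases a <;> cases b <;> simp [bb, hs.sq_mul, hx2, hy2, hxy]
    have hW : (bb w₁ c * bb w₂ d) ^ 2 = bb z (c || d) := by
      cases c <;> cases d <;> simp [bb, hs.sq_mul, h1sq, h2sq, hw, ← pow_two, hzz]
    have hAW : ⁅bb x a * bb y b, bb w₁ c * bb w₂ d⁆ = 1 := by
      cases a <;> cases b <;> cases c <;> cases d <;>
        simp [bb, hs.mul_left, hs.mul_right, hs.comm_swap w₁ x, hs.comm_swap w₁ y, hs.comm_swap w₂ x,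
          hs.comm_swap w₂ y, hw1x, hw1y, hw2x, hw2y]
    have hE : ∀ g : X, (g * bb z e) ^ 2 = g ^ 2 := by
      intro g
      cases e
      · simp [bb]
      · rw [hs.sq_mul, show bb z true = z from rfl, hs.comm_swap z g, hcz, mul_one, hzz, mul_one]
    show (bb x a * bb y b * (bb w₁ c * bb w₂ d) * bb z e) ^ 2 = 1 ↔ _
    rw [hE, hs.sq_mul, hA, hW, hAW, mul_one]
    dsimp only
    generalize (a && b) = s
    generalize (c || d) = t
    cases s <;> cases t <;> simp [bb, hz1', ← pow_two, hzz]
  rw [← count_bool]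
  refine (Nat.card_congr (Equiv.subtypeEquiv (Equiv.ofBijective P hPb) fun p => ?_)).symm
  rw [Equiv.ofBijective_apply, orderOf_eq_prime_iff, hPsq]
  have h0 : P (false, false, false, false, false) = 1 := by simp [P, bb]
  exact and_congr Iff.rfl ⟨fun h e => h (hP (e.trans h0.symm)), fun h e => h (e ▸ h0)⟩

end CfsgLib.ThompsonLemma
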