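/-
All invariant normal abelian subgroups central: order 8, 32 or 64.
-/
import Cfsg.Agent.Lib.ThompsonLemma.CaseA
import Cfsg.Agent.Lib.ThompsonLemma.Extra32
import Cfsg.Agent.Lib.PairRank.Extra
import Cfsg.Agent.Lib.MacWilliams.Main
import Cfsg.Agent.S4189

set_option autoImplicit false

namespace CfsgLib.ThompsonLemma

open Subgroup CfsgLib.MacWilliams
open scoped commutatorElement

universe u v

variable {X : Type u} [Group X] [Finite X]

theorem card_eq_map_mul (N : Subgroup X) [N.Normal] {S : Subgroup X} (h : N ≤ S) :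
    Nat.card S = Nat.card (S.map (QuotientGroup.mk' N)) * Nat.card N := by
  rw [← Subgroup.relIndex_ker, QuotientGroup.ker_mk', Subgroup.relIndex,
    ← Nat.card_congr (Subgroup.subgroupOfEquivOfLe h).toEquiv, mul_comm]
  exact (N.subgroupOf S).card_mul_index.symm

theorem card_ge_of_pair (hV : ∀ x : X, x ^ 2 ∈ center X) {S : Subgroup X} (hS : center X ≤ S) {y z : X}
    (hy : y ∈ S) (hz : z ∈ S) (hyc : y ∉ center X) (hzc : z ∉ center X) (hyz : y⁻¹ * z ∉ center X) :
    4 * Nat.card (center X) ≤ Nat.card S := by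
  rw [card_eq_map_mul (center X) hS]
  refine Nat.mul_le_mul_right _ (four_le_card (a := (y : X ⧸ center X)) (b := (z : X ⧸ center X))
    ⟨y, hy, rfl⟩ ⟨z, hz, rfl⟩ (fun e => hyc ((QuotientGroup.eq_one_iff y).1 e))
    (fun e => hzc ((QuotientGroup.eq_one_iff z).1 e)) (fun e => hyz (QuotientGroup.eq.1 e)) ?_)
  rw [← QuotientGroup.mk_pow, QuotientGroup.eq_one_iff]
  exact hV y

variable {Γ : Type v} [Group Γ] [Finite Γ] {ρ : Γ →* MulAut X}

/-- Squares, commutators and the centre. -/
theorem center_facts (hodd : Odd (Nat.card Γ)) (h2 : IsPGroup 2 X) (hg : Gen ρ) (h8 : NoEight X)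
    (hna : ∃ x y : X, x * y ≠ y * x) (hs : Small X) :
    center X ≤ commutator X ∧ (∀ z ∈ center X, z ^ 2 = 1) ∧ commutator X ≤ center X := by
  classical
  let O : Subgroup X :=
    { carrier := {a | a ∈ center X ∧ a ^ 2 = 1}
      one_mem' := ⟨one_mem _, one_pow _⟩
      mul_mem' := fun {a b} ha hb => ⟨mul_mem ha.1 hb.1, by
        rw [(show Commute a b from (mem_center_iff.1 hb.1 a)).mul_pow, ha.2, hb.2, one_mul]⟩
      inv_mem' := fun {a} ha => ⟨inv_mem ha.1, by rw [inv_pow, ha.2, inv_one]⟩ }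
  have hOc : O ≤ center X := fun a ha => ha.1
  haveI hOn : O.Normal := ⟨fun a ha g => by rw [mem_center_iff.1 ha.1 g, mul_inv_cancel_right]; exact ha⟩
  have hOi : Invar ρ O := fun a x hx =>
    ⟨invar_of_characteristic ρ (center X) inferInstance a x hx.1, by rw [← map_pow, hx.2, map_one]⟩
  have hO4 : Nat.card O ≤ 4 :=
    h8 O hOn ⟨⟨fun a b => Subtype.ext (mem_center_iff.1 b.2.1 a.1)⟩⟩ fun _ ha => ha.2
  have hcO : ∀ x y : X, ⁅x, y⁆ ∈ O := fun x y => ⟨(hs x y).1, (hs x y).2⟩
  have hDO : commutator X ≤ O := by rw [commutator_def, Subgroup.commutator_le]; exact fun x _ y _ => hcO x y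
  have hcD : ∀ x y : X, ⁅x, y⁆ ∈ commutator X := fun x y =>
    Subgroup.commutator_mem_commutator (mem_top x) (mem_top y)
  refine (fun hZD => ⟨hZD, fun z hz => (hDO (hZD hz)).2, hDO.trans hOc⟩) ?_
  by_cases hfix : ∀ a, ∀ o ∈ O, ρ a o = o
  · have hZfix : ∀ a, ∀ z ∈ center X, ρ a z = z := fun a =>
      fixed_of_omega ρ hodd h2 a (fun x _ y hy => mem_center_iff.1 hy x)
        (invar_of_characteristic ρ (center X) inferInstance) (fun x hx hx2 => hfix a x ⟨hx, hx2⟩)
    intro z hz
    refine mem_of_fixed ρ hodd h2 hg (commutator X) (invar_of_characteristic ρ _ inferInstance) hcD fun a => ?_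
    rw [hZfix a z hz, inv_mul_cancel]; exact one_mem _
  push Not at hfix
  obtain ⟨φ, e₁, he₁, hmove⟩ := hfix
  have hno : ∀ c ∈ O, c ≠ 1 → ρ φ c ≠ c := fun c hc hc1 e =>
    hmove (fixed_of_four ρ hodd φ hOi hO4 hc hc1 e e₁ he₁)
  have he11 : e₁ ≠ 1 := by rintro rfl; exact hmove (map_one _)
  have hfour : ∀ (S : Subgroup X), Invar ρ S → ∀ c ∈ S, c ∈ O → c ≠ 1 → S ⊓ O = O := by
    intro S hS c hcS hc hc1
    refine eq_of_le_of_card_ge inf_le_right (hO4.trans ?_)
    exact four_le_card (a := c) (b := ρ φ c) ⟨hcS, hc⟩ ⟨hS φ c hcS, hOi φ c hc⟩ hc1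
      (fun e => hc1 ((ρ φ).injective (e.trans (map_one _).symm))) (hno c hc hc1).symm hc.2
  obtain ⟨u, v, huv⟩ := hna
  have huv' : ⁅u, v⁆ ≠ 1 := fun e => huv (commutatorElement_eq_one_iff_mul_comm.1 e)
  have hO4' : Nat.card O = 4 := le_antisymm hO4 (four_le_card he₁ (hOi φ e₁ he₁) he11
    (fun e => he11 ((ρ φ).injective (e.trans (map_one _).symm))) hmove.symm he₁.2)
  have hOD : O ≤ commutator X := fun o ho => by
    have := hfour (commutator X) (invar_of_characteristic ρ _ inferInstance) _ (hcD u v) (hcO u v) huv'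
    rw [← this] at ho
    exact ho.1
  by_cases hexp : ∀ z ∈ center X, z ^ 2 = 1
  · exact fun z hz => hOD ⟨hz, hexp z hz⟩
  exfalso
  push Not at hexp
  obtain ⟨a, haZ, ha⟩ := hexp
  have hk := Nat.find_spec (h2 a)
  have hk2 : 2 ≤ Nat.find (h2 a) := by
    by_contra hlt
    apply ha
    rcases Nat.eq_zero_or_pos (Nat.find (h2 a)) with h0 | h0
    · rw [h0, pow_zero, pow_one] at hk; rw [hk, one_pow]
    · rwa [show Nat.find (h2 a) = 1 by omega, pow_one] at hk
  set b := a ^ 2 ^ (Nat.find (h2 a) - 2) with hb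
  have hbZ : b ∈ center X := pow_mem haZ _
  have hb2 : b ^ 2 ≠ 1 := fun e => by
    rw [hb, ← pow_mul, ← pow_succ] at e
    exact Nat.find_min (h2 a) (show Nat.find (h2 a) - 2 + 1 < Nat.find (h2 a) by omega) e
  have hb4 : (b ^ 2) ^ 2 = 1 := by
    rw [← pow_mul, hb, ← pow_mul, show (2 * 2 : ℕ) = 2 ^ 2 from rfl, ← pow_add,
      show Nat.find (h2 a) - 2 + 2 = Nat.find (h2 a) by omega]
    exact hk
  let sq : center X →* X := MonoidHom.mk' (fun z => (z : X) ^ 2) fun p q =>
    (show Commute (p : X) q from mem_center_iff.1 q.2 p).mul_pow 2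
  set T := sq.range with hT
  have hTc : T ≤ center X := by rintro _ ⟨z, rfl⟩; exact pow_mem z.2 2
  haveI hTn : T.Normal := ⟨fun t ht g => by rw [mem_center_iff.1 (hTc ht) g, mul_inv_cancel_right]; exact ht⟩
  have hTi : Invar ρ T := by
    rintro c _ ⟨z, rfl⟩
    exact ⟨⟨ρ c z, invar_of_characteristic ρ (center X) inferInstance c z.1 z.2⟩, (map_pow (ρ c) _ 2).symm⟩
  have hOT : O ≤ T := fun o ho => by
    have := hfour T hTi (b ^ 2) ⟨⟨b, hbZ⟩, rfl⟩ ⟨pow_mem hbZ 2, hb4⟩ hb2
    rw [← this] at ho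
    exact ho.1
  let q : X →* X ⧸ T := MonoidHom.mk' (fun x => ((x ^ 2 : X) : X ⧸ T)) fun x y => by
    rw [hs.sq_mul x y, QuotientGroup.mk_mul, QuotientGroup.mk_mul, (QuotientGroup.eq_one_iff _).2 (hOT (hcO x y)),
      mul_one]
  have hqk : q.ker = center X := by
    ext x
    refine ⟨fun hx => ?_, fun hx => (QuotientGroup.eq_one_iff _).2 ⟨⟨x, hx⟩, rfl⟩⟩
    obtain ⟨z, hz⟩ : x ^ 2 ∈ T := (QuotientGroup.eq_one_iff _).1 hx
    have hz' : (z : X) ^ 2 = x ^ 2 := hz
    have hcm : Commute (z : X)⁻¹ x := ((show Commute x (z : X) from mem_center_iff.1 z.2 x).symm).inv_left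
    have hy : ((z : X)⁻¹ * x) ^ 2 = 1 := by rw [hcm.mul_pow, inv_pow, hz', inv_mul_cancel]
    have := hOc (mem_of_sq_eq_one h8 hOc hO4'.ge (fun o ho => ho.2) hcO hy)
    have := mul_mem z.2 this
    rwa [mul_inv_cancel_left] at this
  have hqr : q.range ≤ (center X).map (QuotientGroup.mk' T) := by
    rintro _ ⟨x, rfl⟩; exact ⟨x ^ 2, hs.sq_mem_center x, rfl⟩
  have hker : Nat.card sq.ker = 4 := by
    rw [← hO4']
    exact Nat.card_congr
      { toFun := fun p => ⟨p.1.1, p.1.2, p.2⟩
        invFun := fun p => ⟨⟨p.1, p.2.1⟩, p.2.2⟩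
        left_inv := fun _ => rfl
        right_inv := fun _ => rfl }
  have hV4 : Nat.card (X ⧸ center X) ≤ 4 := by
    have h1 := card_eq_map_mul T hTc
    have h3 := sq.ker.card_mul_index
    rw [Subgroup.index_ker, hker, ← hT, h1] at h3
    have h4 : Nat.card ((center X).map (QuotientGroup.mk' T)) = 4 :=
      (Nat.eq_of_mul_eq_mul_right Nat.card_pos h3).symm
    rw [← Subgroup.index_eq_card, ← hqk, Subgroup.index_ker]
    exact h4 ▸ Nat.card_le_card_of_injective _ (inclusion_injective hqr)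
  refine hno _ (hcO u v) huv' ?_
  have e := map_commutatorElement (ρ φ) u v
  rcases hs.comm_cases hV4 huv' (ρ φ u) (ρ φ v) with hh | hh
  · exact absurd ((ρ φ).injective ((e.trans hh).trans (map_one _).symm)) huv'
  · exact e.trans hh

/-- No central quotient of order eight. -/
theorem index_ne_eight (h2 : IsPGroup 2 X) (hs : Small X)
    (hall : ∀ A : Subgroup X, A.Normal → (∀ a ∈ A, ∀ b ∈ A, a * b = b * a) → Invar ρ A → A ≤ center X)
    (hZ2 : ∀ z ∈ center X, z ^ 2 = 1) (hZ4 : Nat.card (center X) ≤ 4) : (center X).index ≠ 8 := by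
  classical
  intro h8
  haveI : Fact (Nat.Prime 2) := ⟨Nat.prime_two⟩
  have hV := hs.sq_mem_center
  have hX : Nat.card X = Nat.card (center X) * 8 := by rw [← (center X).card_mul_index, h8]
  obtain ⟨y, z, hcyz, hy, hz, hyz⟩ : ∃ y z : X, ⁅y, z⁆ = 1 ∧ y ∉ center X ∧ z ∉ center X ∧ y⁻¹ * z ∉ center X := by
    obtain ⟨u, hu⟩ : ∃ u, u ∉ center X := by
      by_contra hc
      push Not at hc
      rw [show center X = ⊤ from eq_top_iff.2 fun g _ => hc g, Subgroup.index_top] at h8
      omega
    by_cases hex : ∃ g, ⁅g, u⁆ = 1 ∧ g ∉ center X ∧ u⁻¹ * g ∉ center X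
    · obtain ⟨g, h1, h2, h3⟩ := hex
      exact ⟨u, g, by rw [hs.comm_swap g u, h1], hu, h2, h3⟩
    push Not at hex
    have hker : Nat.card (hs.psi u).ker ≤ 2 * Nat.card (center X) := by
      have h : ∀ g : (hs.psi u).ker, ∃ p : Bool × center X, (g : X) = bb u p.1 * p.2 := by
        intro g
        by_cases hg : (g : X) ∈ center X
        · exact ⟨(false, ⟨g, hg⟩), by simp [bb]⟩
        · exact ⟨(true, ⟨_, hex g.1 g.2 hg⟩), by simp [bb]⟩
      choose f hf using h
      refine (Nat.card_le_card_of_injective f fun g g' e => Subtype.ext (by rw [hf g, hf g', e])).trans ?_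
      simp
    have hr : (hs.psi u).range ≤ center X := by rintro _ ⟨g, rfl⟩; exact (hs g u).1
    have hr4 : 4 ≤ Nat.card (hs.psi u).range := by
      by_contra hlt
      have h1 := (hs.psi u).ker.card_mul_index
      rw [Subgroup.index_ker, hX] at h1
      have := Nat.mul_le_mul hker (show Nat.card (hs.psi u).range ≤ 3 by omega)
      have := Nat.card_pos (α := center X)
      nlinarith
    have hreq : (hs.psi u).range = center X := eq_of_le_of_card_ge hr (hZ4.trans hr4)
    obtain ⟨k, hk, hk1⟩ := (Subgroup.bot_or_exists_ne_one (center X)).resolve_left (fun e => by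
      rw [hreq, e, Subgroup.card_bot] at hr4; omega)
    obtain ⟨l, hl, hl1, hlk⟩ : ∃ l ∈ center X, l ≠ 1 ∧ l ≠ k := by
      by_contra hc
      push Not at hc
      have h : ∀ g : center X, (g : X) ∈ ({1, k} : Finset X) := fun g => by
        by_cases hg : (g : X) = 1
        · simp [hg]
        · simp [hc g.1 g.2 hg]
      have := Nat.card_le_card_of_injective (fun g : center X => (⟨g.1, h g⟩ : ({1, k} : Finset X)))
        fun g g' e => Subtype.ext (congrArg Subtype.val e :)
      rw [Nat.card_eq_fintype_card (α := ({1, k} : Finset X)), Fintype.card_coe] at this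
      have := (Finset.card_le_two (a := (1 : X)) (b := k))
      rw [hreq] at hr4
      omega
    obtain ⟨v, hv⟩ : k ∈ (hs.psi u).range := hreq.symm ▸ hk
    obtain ⟨w, hw⟩ : l ∈ (hs.psi u).range := hreq.symm ▸ hl
    rw [Small.psi_apply] at hv hw
    have hkk : k * k = 1 := by rw [← pow_two, hZ2 k hk]
    have hll : l * l = 1 := by rw [← pow_two, hZ2 l hl]
    have hind : ∀ i j : Bool, ⁅v * bb u i, u⁆ = k ∧ ⁅w * bb u j, u⁆ = l := fun i j => by
      cases i <;> cases j <;> simp [bb, hs.mul_left, hv, hw]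
    suffices h : ∃ i j : Bool, ⁅v * bb u i, w * bb u j⁆ = 1 by
      obtain ⟨i, j, h⟩ := h
      have hz0 : ∀ g ∈ center X, ⁅g, u⁆ = 1 := fun g hg =>
        commutatorElement_eq_one_iff_mul_comm.2 (mem_center_iff.1 hg u).symm
      refine ⟨_, _, h, fun hc => hk1 ((hind i j).1.symm.trans (hz0 _ hc)),
        fun hc => hl1 ((hind i j).2.symm.trans (hz0 _ hc)), fun hc => hlk ?_⟩
      have e := hz0 _ hc
      rw [hs.mul_left, ← Small.psi_apply hs u (v * bb u i)⁻¹, map_inv, Small.psi_apply, (hind i j).1, (hind i j).2,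
        inv_mul_eq_one] at e
      exact e.symm
    rcases four_all hZ4 hk hl hk1 hl1 hlk.symm (hZ2 k hk) ⁅v, w⁆ (hs v w).1 with e | e | e | e
    · exact ⟨false, false, by simpa [bb] using e⟩
    · exact ⟨false, true, by simp [bb, hs.mul_right, e, hv, hkk]⟩
    · exact ⟨true, false, by simp [bb, hs.mul_left, hs.comm_swap w u, hw, e, hll]⟩
    · refine ⟨true, true, ?_⟩
      simp only [bb, cond_true]
      rw [hs.mul_left, hs.mul_right, hs.mul_right, commutatorElement_self, mul_one, hs.comm_swap w u, hw, hv, e,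
        show k * l * k * l = k * (l * k) * l by group, mem_center_iff.1 hk l]
      rw [← mul_assoc k k, hkk, one_mul, hll]
  -- the abelian subgroup
  set P := centralizer ({y} : Set X) with hP
  have hZP : center X ≤ P := Subgroup.center_le_centralizer _
  have hzP : z ∈ P := by
    rw [hP, mem_centralizer_singleton_iff]
    exact (commutatorElement_eq_one_iff_mul_comm.1 hcyz).symm
  have hyP : y ∈ P := by rw [hP, mem_centralizer_singleton_iff]
  have hPge := card_ge_of_pair hV hZP hyP hzP hy hz hyz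
  have hPne : P ≠ ⊤ := fun e => hy (mem_center_iff.2 fun g => by
    have := e ▸ mem_top g
    rw [hP, mem_centralizer_singleton_iff] at this
    exact this)
  have hPidx : P.index = 2 := by
    have h1 := P.card_mul_index
    rw [hX] at h1
    have h2' : P.index ≠ 1 := fun e => hPne (Subgroup.index_eq_one.1 e)
    have h3 : P.index ≠ 0 := Subgroup.index_ne_zero_of_finite
    have h4 : P.index ≤ 2 := by
      by_contra hc
      have := Nat.mul_le_mul hPge (show 3 ≤ P.index by omega)
      have := Nat.card_pos (α := center X)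
      nlinarith
    omega
  have hPcard : Nat.card P = 4 * Nat.card (center X) := by
    have h1 := P.card_mul_index
    rw [hX, hPidx] at h1
    omega
  have hPc : ∀ a ∈ P, ∀ b ∈ P, a * b = b * a := by
    have hQ : P ⊓ centralizer ({z} : Set X) = P := eq_of_le_of_card_ge inf_le_left (by
      rw [hPcard]
      refine card_ge_of_pair hV (le_inf hZP (Subgroup.center_le_centralizer _)) ⟨hyP, ?_⟩ ⟨hzP, ?_⟩ hy hz hyz
      · exact mem_centralizer_singleton_iff.2 (commutatorElement_eq_one_iff_mul_comm.1 hcyz)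
      · exact mem_centralizer_singleton_iff.2 rfl)
    intro a ha b hb
    have hQa : P ⊓ centralizer ({a} : Set X) = P := eq_of_le_of_card_ge inf_le_left (by
      rw [hPcard]
      refine card_ge_of_pair hV (le_inf hZP (Subgroup.center_le_centralizer _)) ⟨hyP, ?_⟩ ⟨hzP, ?_⟩ hy hz hyz
      · exact mem_centralizer_singleton_iff.2 (mem_centralizer_singleton_iff.1 ha).symm
      · refine mem_centralizer_singleton_iff.2 ?_
        exact (mem_centralizer_singleton_iff.1 (hQ.symm ▸ ha : a ∈ P ⊓ centralizer ({z} : Set X)).2).symm)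
    exact (mem_centralizer_singleton_iff.1 (hQa.symm ▸ hb : b ∈ P ⊓ centralizer ({a} : Set X)).2).symm
  refine hy (hall P ?_ hPc ?_ hyP)
  · exact ⟨fun b hb g => by
      have : g * b * g⁻¹ = ⁅g, b⁆ * b := by rw [commutatorElement_def, inv_mul_cancel_right]
      rw [this]; exact mul_mem (hZP (hs g b).1) hb⟩
  intro a x hx
  by_contra hxa
  let P' := P.map (ρ a).toMonoidHom
  have hP'c : Nat.card P' = Nat.card P :=
    (Nat.card_congr (P.equivMapOfInjective _ (ρ a).injective).toEquiv).symm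
  have hZP' : center X ≤ P' := fun g hg => ⟨ρ a⁻¹ g,
    hZP (invar_of_characteristic ρ (center X) inferInstance _ g hg), by
      show ρ a (ρ a⁻¹ g) = g
      rw [← MulAut.mul_apply, ← map_mul, mul_inv_cancel, map_one, MulAut.one_apply]⟩
  have hP'idx : P'.index = 2 := by
    have h1 := P'.card_mul_index
    rw [← P.card_mul_index, hP'c, hPidx] at h1
    exact Nat.eq_of_mul_eq_mul_left Nat.card_pos h1
  have hsup : P ⊔ P' = ⊤ := by
    rw [← Subgroup.index_eq_one]
    have hdvd := Subgroup.index_dvd_of_le (le_sup_left : P ≤ P ⊔ P')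
    rw [hPidx] at hdvd
    rcases (Nat.dvd_prime Nat.prime_two).1 hdvd with e | e
    · exact e
    · exfalso
      refine hxa ?_
      have hle : P ⊔ P' = P := (eq_of_le_of_card_ge le_sup_left (by
        have h1 := (P ⊔ P').card_mul_index
        have h2 := P.card_mul_index
        rw [e, ← h2, hPidx] at h1
        omega)).symm
      exact hle ▸ (le_sup_right : P' ≤ P ⊔ P') ⟨x, hx, rfl⟩
  have hinf : P ⊓ P' ≤ center X := by
    intro g hg
    have : (⊤ : Subgroup X) ≤ centralizer ({g} : Set X) := hsup ▸ sup_le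
      (fun b hb => mem_centralizer_singleton_iff.2 (hPc b hb g hg.1))
      (fun b ⟨c, hc, hcb⟩ => by
        obtain ⟨d, hd, hdg⟩ := hg.2
        rw [mem_centralizer_singleton_iff, ← hcb, ← hdg, ← map_mul, hPc c hc d hd, map_mul])
    exact mem_center_iff.2 fun b => (mem_centralizer_singleton_iff.1 (this (mem_top b)))
  have h1 := Subgroup.index_inf_le (H := P) (K := P')
  rw [hPidx, hP'idx] at h1
  have h3 := (P ⊓ P').card_mul_index
  rw [hX] at h3
  have := Nat.mul_le_mul (Nat.card_le_card_of_injective _ (inclusion_injective hinf)) h1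
  have := Nat.card_pos (α := center X)
  omega

/-- The case where all invariant normal abelian subgroups are central. -/
theorem case_central (hodd : Odd (Nat.card Γ)) (h2 : IsPGroup 2 X) (hg : Gen ρ) (h8 : NoEight X)
    (hna : ∃ x y : X, x * y ≠ y * x)
    (hall : ∀ A : Subgroup X, A.Normal → (∀ a ∈ A, ∀ b ∈ A, a * b = b * a) → Invar ρ A → A ≤ center X) :
    Nonempty (X ≃* QuaternionGroup 2) ∨
      (Cfsg.IsSpecial 2 X ∧ Nat.card X = 64 ∧ Nat.card {x : X // orderOf x = 2} = 3 ∧
        ∀ x : X, orderOf x = 2 → x ∈ center X) ∨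
      (Cfsg.IsExtraspecial 2 X ∧ Nat.card X = 32 ∧ Nat.card {x : X // orderOf x = 2} = 11) := by
  classical
  haveI : Fact (Nat.Prime 2) := ⟨Nat.prime_two⟩
  haveI := h2.isNilpotent
  have hd := CfsgLib.PairRank.derived_small h2 fun A hA hc =>
    hall A inferInstance hc (invar_of_characteristic ρ A hA)
  have hs : Small X := fun x y => ⟨(hd x y).1, (hd x y).2.1⟩
  obtain ⟨hZD, hZ2, hDZ⟩ := center_facts hodd h2 hg h8 hna hs
  have hDeq : commutator X = center X := le_antisymm hDZ hZD
  have hsq := hs.sq_mem_center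
  have hcZ : ∀ x y : X, ⁅x, y⁆ ∈ center X := fun x y => (hs x y).1
  have hZ4 : Nat.card (center X) ≤ 4 :=
    h8 _ inferInstance ⟨⟨fun a b => Subtype.ext (mem_center_iff.1 b.2 a.1)⟩⟩ hZ2
  have hspec : Cfsg.IsSpecial 2 X := by
    refine ⟨h2, le_antisymm (RankFrattini.frattini_le_of_elementary h2 _ hcZ hsq) ?_, hDeq⟩
    exact hDeq ▸ CfsgLib.commutator_le_frattini_pGroup h2
  obtain ⟨u, v, huv⟩ := hna
  have huv' : ⁅u, v⁆ ≠ 1 := fun e => huv (commutatorElement_eq_one_iff_mul_comm.1 e)
  obtain ⟨k, hk⟩ := IsPGroup.iff_card.1 (h2.to_quotient (center X))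
  have hk4 : k ≤ 4 := by
    let N : Subgroup (⊤ : Subgroup X) := (center X).subgroupOf ⊤
    have h := CfsgLib.MacWilliams.sectional_rank_le_four h2 h8 ⊤ N ⊤ ?_ ?_
    · rw [Subgroup.card_top, ← Subgroup.index_eq_card] at h
      have e : N.index = (center X).index := Subgroup.relIndex_top_right _
      rw [e, Subgroup.index_eq_card, hk] at h
      exact (Nat.pow_le_pow_iff_right (by norm_num)).1 h
    · refine ⟨⟨fun a b => Subtype.ext ?_⟩⟩
      obtain ⟨x, ex⟩ := QuotientGroup.mk_surjective a.1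
      obtain ⟨y, ey⟩ := QuotientGroup.mk_surjective b.1
      show a.1 * b.1 = b.1 * a.1
      rw [← ex, ← ey, ← commutatorElement_eq_one_iff_mul_comm]
      refine (map_commutatorElement (QuotientGroup.mk' N) x y).symm.trans ((QuotientGroup.eq_one_iff _).2 ?_)
      exact hcZ x.1 y.1
    · intro a _
      induction a using QuotientGroup.induction_on with | _ x => ?_
      rw [← QuotientGroup.mk_pow, QuotientGroup.eq_one_iff]
      exact hsq x.1
  have hk2 : 2 ≤ k := by
    by_contra hc
    have hle : Nat.card (X ⧸ center X) ≤ 2 := hk ▸ (Nat.pow_le_pow_right (by norm_num) (show k ≤ 1 by omega))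
    have h4 : 4 ≤ Nat.card (⊤ : Subgroup (X ⧸ center X)) := by
      refine four_le_card (a := (u : X ⧸ center X)) (b := (v : X ⧸ center X)) (mem_top _) (mem_top _) (fun e => ?_)
        (fun e => ?_) (fun e => ?_) (by rw [← QuotientGroup.mk_pow, QuotientGroup.eq_one_iff]; exact hsq u)
      · exact huv ((mem_center_iff.1 ((QuotientGroup.eq_one_iff u).1 e) v)).symm
      · exact huv (mem_center_iff.1 ((QuotientGroup.eq_one_iff v).1 e) u)
      · have := mem_center_iff.1 (QuotientGroup.eq.1 e) u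
        rw [mul_inv_cancel_left] at this
        exact huv (by
          conv_lhs => rw [this]
          group)
    rw [Subgroup.card_top] at h4
    omega
  have hX : Nat.card X = Nat.card (center X) * 2 ^ k := by
    rw [← hk, ← Subgroup.index_eq_card, Subgroup.card_mul_index]
  have hk3 : k ≠ 3 := fun e => index_ne_eight h2 hs hall hZ2 hZ4 (by rw [Subgroup.index_eq_card, hk, e]; rfl)
  rcases (show k = 2 ∨ k = 4 by omega) with rfl | rfl
  · left
    refine Cfsg.Agent.S4189.result h2 (fun h => huv (h.is_comm.comm u v)) ?_ ?_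
    · rw [hDeq, Subgroup.index_eq_card, hk]; rfl
    intro haut
    obtain ⟨a, x, hax⟩ : ∃ a x, ρ a x ≠ x := by
      by_contra hc
      push Not at hc
      exact huv (by rw [show u = 1 from hom_trivial hg (MonoidHom.id X) hc u, one_mul, mul_one])
    obtain ⟨j, hj⟩ := haut (ρ a)
    have h1 : (ρ a) ^ Nat.card Γ = 1 := by rw [← map_pow, pow_card_eq_one', map_one]
    have hcop : Nat.Coprime (Nat.card Γ) (2 ^ j) := Nat.Coprime.pow_right _ (Nat.coprime_two_right.2 hodd)
    have e := pow_gcd_eq_one.2 ⟨h1, hj⟩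
    rw [hcop.gcd_eq_one, pow_one] at e
    exact hax (by rw [e, MulAut.one_apply])
  · obtain ⟨j, hj⟩ := IsPGroup.iff_card.1 (h2.to_subgroup (center X))
    have hj2 : j ≤ 2 := (Nat.pow_le_pow_iff_right (show 1 < 2 by norm_num)).1 (hj ▸ hZ4)
    have hj1 : j ≠ 0 := fun e => by
      rw [e, pow_zero] at hj
      have : ⁅u, v⁆ ∈ center X := hcZ u v
      rw [Subgroup.card_eq_one.1 hj, mem_bot] at this
      exact huv' this
    rcases (show j = 1 ∨ j = 2 by omega) with rfl | rfl
    · refine Or.inr (Or.inr ⟨⟨hspec, hj⟩, by rw [hX, hj]; rfl, ?_⟩)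
      exact involutions_eleven h8 hs hsq hj (by rw [hX, hj]; rfl)
    · have hinv : ∀ x : X, orderOf x = 2 → x ∈ center X := fun x hx =>
        mem_of_sq_eq_one h8 le_rfl (by rw [hj]; rfl) hZ2 hcZ (hx ▸ pow_orderOf_eq_one x)
      refine Or.inr (Or.inl ⟨hspec, by rw [hX, hj]; rfl, ?_, hinv⟩)
      have hcount : Nat.card {x : X // orderOf x = 2} = Nat.card {z : center X // z ≠ 1} := Nat.card_congr
        { toFun := fun x => ⟨⟨x.1, hinv _ x.2⟩, fun e => by
            have : x.1 = 1 := congrArg Subtype.val e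
            have h := x.2
            rw [this, orderOf_one] at h
            omega⟩
          invFun := fun z => ⟨z.1.1, orderOf_eq_prime (hZ2 _ z.1.2) fun e => z.2 (Subtype.ext e)⟩
          left_inv := fun _ => rfl
          right_inv := fun _ => rfl }
      haveI := Fintype.ofFinite (center X)
      rw [hcount, Nat.card_eq_fintype_card, Fintype.card_subtype_compl, Fintype.card_subtype_eq,
        ← Nat.card_eq_fintype_card, hj]
      rfl

end CfsgLib.ThompsonLemma
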